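import Cfsg.Agent.Lib.TC.Main
import Cfsg.Prelude.Def_Spor_Ly

/-! Columns and relators of the presentation of the Lyons group. -/

namespace Cfsg.Agent.Lib.DCE.Ly.Cols

open Cfsg.Spor Cfsg.Agent.Lib.TC.Core Cfsg.Agent.Lib.TC.Pres Cfsg.Agent.Lib.TC.Main Cfsg.Agent.Lib.TC.Enc

set_option maxRecDepth 100000

/-- The column of a generator. -/
def colF : Cfsg.Spor.Ly.Gen → Nat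
  | .a => 0
  | .b => 1
  | .c => 2
  | .d => 3
  | .z => 4
  | .e => 5
  | .a1 => 6
  | .a2 => 7
  | .a3 => 8
  | .a4 => 9
  | .c1 => 10
  | .c2 => 11
  | .c3 => 12
  | .c4 => 13
  | .c5 => 14
  | .u => 15
  | .x23 => 16
  | .x24 => 17
  | .x25 => 18
  | .x29 => 19
  | .x47 => 20
  | .x96 => 21
  | .x129 => 22
  | .x162 => 23
  | .x163 => 24
  | .x164 => 25
  | .x165 => 26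
  | .x166 => 27
  | .x167 => 28
  | .x168 => 29
  | .x169 => 30
  | .x364 => 31
  | .x365 => 32
  | .x366 => 33
  | .x367 => 34
  | .x368 => 35
  | .x369 => 36
  | .x370 => 37
  | .x371 => 38

/-- The generator of a column. -/
def genF (c : Nat) : Cfsg.Spor.Ly.Gen :=
  [Cfsg.Spor.Ly.Gen.a,Cfsg.Spor.Ly.Gen.b,Cfsg.Spor.Ly.Gen.c,Cfsg.Spor.Ly.Gen.d,Cfsg.Spor.Ly.Gen.z,Cfsg.Spor.Ly.Gen.e,Cfsg.Spor.Ly.Gen.a1,Cfsg.Spor.Ly.Gen.a2,Cfsg.Spor.Ly.Gen.a3,Cfsg.Spor.Ly.Gen.a4,Cfsg.Spor.Ly.Gen.c1,Cfsg.Spor.Ly.Gen.c2,Cfsg.Spor.Ly.Gen.c3,Cfsg.Spor.Ly.Gen.c4,Cfsg.Spor.Ly.Gen.c5,Cfsg.Spor.Ly.Gen.u,Cfsg.Spor.Ly.Gen.x23,Cfsg.Spor.Ly.Gen.x24,Cfsg.Spor.Ly.Gen.x25,Cfsg.Spor.Ly.Gen.x29,Cfsg.Spor.Ly.Gen.x47,Cfsg.Spor.Ly.Gen.x96,Cfsg.Spor.Ly.Gen.x129,Cfsg.Spor.Ly.Gen.x162,Cfsg.Spor.Ly.Gen.x163,Cfsg.Spor.Ly.Gen.x164,Cfsg.Spor.Ly.Gen.x165,Cfsg.Spor.Ly.Gen.x166,Cfsg.Spor.Ly.Gen.x167,Cfsg.Spor.Ly.Gen.x168,Cfsg.Spor.Ly.Gen.x169,Cfsg.Spor.Ly.Gen.x364,Cfsg.Spor.Ly.Gen.x365,Cfsg.Spor.Ly.Gen.x366,Cfsg.Spor.Ly.Gen.x367,Cfsg.Spor.Ly.Gen.x368,Cfsg.Spor.Ly.Gen.x369,Cfsg.Spor.Ly.Gen.x370,Cfsg.Spor.Ly.Gen.x371].getD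 (cond (Nat.blt c 39) c (c - 39)) Cfsg.Spor.Ly.Gen.a

/-- The sign of a column. -/
def sgnF (c : Nat) : Bool := Nat.blt c 39

/-- The inverse column. -/
def invF (c : Nat) : Nat := cond (Nat.blt c 39) (c + 39) (c - 39)

/-- The columns. -/
def K : Cols Cfsg.Spor.Ly.Gen := ⟨78, colF, genF, sgnF, invF⟩

/-- The relators. -/
abbrev Rel : Set (FreeGroup Cfsg.Spor.Ly.Gen) :=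
  coxRelators Cfsg.Spor.Ly.edges ∪ {r | r ∈ Cfsg.Spor.Ly.extra}

/-- The words of the relators. -/
def extraW : List (List (Cfsg.Spor.Ly.Gen × Bool)) :=
  [[(Cfsg.Spor.Ly.Gen.a,true),(Cfsg.Spor.Ly.Gen.a,true),(Cfsg.Spor.Ly.Gen.a,true),(Cfsg.Spor.Ly.Gen.a,true),(Cfsg.Spor.Ly.Gen.a,true),(Cfsg.Spor.Ly.Gen.a,true),(Cfsg.Spor.Ly.Gen.a,true),(Cfsg.Spor.Ly.Gen.a,true)],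
   [(Cfsg.Spor.Ly.Gen.b,true),(Cfsg.Spor.Ly.Gen.b,true),(Cfsg.Spor.Ly.Gen.b,true),(Cfsg.Spor.Ly.Gen.b,true),(Cfsg.Spor.Ly.Gen.b,true)],
   [(Cfsg.Spor.Ly.Gen.a,true),(Cfsg.Spor.Ly.Gen.b,true),(Cfsg.Spor.Ly.Gen.a,true),(Cfsg.Spor.Ly.Gen.b,true),(Cfsg.Spor.Ly.Gen.a,true),(Cfsg.Spor.Ly.Gen.b,true),(Cfsg.Spor.Ly.Gen.a,true),(Cfsg.Spor.Ly.Gen.b,true)],
   [(Cfsg.Spor.Ly.Gen.a,false),(Cfsg.Spor.Ly.Gen.a,false),(Cfsg.Spor.Ly.Gen.b,false),(Cfsg.Spor.Ly.Gen.a,true),(Cfsg.Spor.Ly.Gen.a,true),(Cfsg.Spor.Ly.Gen.b,true)],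
   [(Cfsg.Spor.Ly.Gen.a,false),(Cfsg.Spor.Ly.Gen.b,false),(Cfsg.Spor.Ly.Gen.a,true),(Cfsg.Spor.Ly.Gen.b,true),(Cfsg.Spor.Ly.Gen.a,false),(Cfsg.Spor.Ly.Gen.b,false),(Cfsg.Spor.Ly.Gen.a,true),(Cfsg.Spor.Ly.Gen.b,true),(Cfsg.Spor.Ly.Gen.a,false),(Cfsg.Spor.Ly.Gen.b,false),(Cfsg.Spor.Ly.Gen.a,true),(Cfsg.Spor.Ly.Gen.b,true)],
   [(Cfsg.Spor.Ly.Gen.c1,true),(Cfsg.Spor.Ly.Gen.c,false)],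
   [(Cfsg.Spor.Ly.Gen.c2,true),(Cfsg.Spor.Ly.Gen.a,false),(Cfsg.Spor.Ly.Gen.c,false),(Cfsg.Spor.Ly.Gen.a,true)],
   [(Cfsg.Spor.Ly.Gen.c3,true),(Cfsg.Spor.Ly.Gen.b,false),(Cfsg.Spor.Ly.Gen.c,false),(Cfsg.Spor.Ly.Gen.b,true)],
   [(Cfsg.Spor.Ly.Gen.c4,true),(Cfsg.Spor.Ly.Gen.b,true),(Cfsg.Spor.Ly.Gen.c,false),(Cfsg.Spor.Ly.Gen.b,false)],
   [(Cfsg.Spor.Ly.Gen.c5,true),(Cfsg.Spor.Ly.Gen.c2,false),(Cfsg.Spor.Ly.Gen.c1,false),(Cfsg.Spor.Ly.Gen.c2,true),(Cfsg.Spor.Ly.Gen.c1,true)],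
   [(Cfsg.Spor.Ly.Gen.c1,true),(Cfsg.Spor.Ly.Gen.c1,true),(Cfsg.Spor.Ly.Gen.c1,true),(Cfsg.Spor.Ly.Gen.c1,true),(Cfsg.Spor.Ly.Gen.c1,true)],
   [(Cfsg.Spor.Ly.Gen.c5,true),(Cfsg.Spor.Ly.Gen.c5,true),(Cfsg.Spor.Ly.Gen.c5,true),(Cfsg.Spor.Ly.Gen.c5,true),(Cfsg.Spor.Ly.Gen.c5,true)],
   [(Cfsg.Spor.Ly.Gen.c1,false),(Cfsg.Spor.Ly.Gen.c5,false),(Cfsg.Spor.Ly.Gen.c1,true),(Cfsg.Spor.Ly.Gen.c5,true)],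
   [(Cfsg.Spor.Ly.Gen.c2,false),(Cfsg.Spor.Ly.Gen.c5,false),(Cfsg.Spor.Ly.Gen.c2,true),(Cfsg.Spor.Ly.Gen.c5,true)],
   [(Cfsg.Spor.Ly.Gen.c3,false),(Cfsg.Spor.Ly.Gen.c5,false),(Cfsg.Spor.Ly.Gen.c3,true),(Cfsg.Spor.Ly.Gen.c5,true)],
   [(Cfsg.Spor.Ly.Gen.c4,false),(Cfsg.Spor.Ly.Gen.c5,false),(Cfsg.Spor.Ly.Gen.c4,true),(Cfsg.Spor.Ly.Gen.c5,true)],
   [(Cfsg.Spor.Ly.Gen.c1,false),(Cfsg.Spor.Ly.Gen.c3,false),(Cfsg.Spor.Ly.Gen.c1,true),(Cfsg.Spor.Ly.Gen.c3,true),(Cfsg.Spor.Ly.Gen.c5,true),(Cfsg.Spor.Ly.Gen.c5,true)],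
   [(Cfsg.Spor.Ly.Gen.c1,false),(Cfsg.Spor.Ly.Gen.c4,false),(Cfsg.Spor.Ly.Gen.c1,true),(Cfsg.Spor.Ly.Gen.c4,true),(Cfsg.Spor.Ly.Gen.c5,false),(Cfsg.Spor.Ly.Gen.c5,false)],
   [(Cfsg.Spor.Ly.Gen.c2,false),(Cfsg.Spor.Ly.Gen.c3,false),(Cfsg.Spor.Ly.Gen.c2,true),(Cfsg.Spor.Ly.Gen.c3,true),(Cfsg.Spor.Ly.Gen.c5,true)],
   [(Cfsg.Spor.Ly.Gen.c2,false),(Cfsg.Spor.Ly.Gen.c4,false),(Cfsg.Spor.Ly.Gen.c2,true),(Cfsg.Spor.Ly.Gen.c4,true)],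
   [(Cfsg.Spor.Ly.Gen.c3,false),(Cfsg.Spor.Ly.Gen.c4,false),(Cfsg.Spor.Ly.Gen.c3,true),(Cfsg.Spor.Ly.Gen.c4,true),(Cfsg.Spor.Ly.Gen.c5,true)],
   [(Cfsg.Spor.Ly.Gen.a,false),(Cfsg.Spor.Ly.Gen.c2,true),(Cfsg.Spor.Ly.Gen.a,true),(Cfsg.Spor.Ly.Gen.c1,true),(Cfsg.Spor.Ly.Gen.c1,true)],
   [(Cfsg.Spor.Ly.Gen.a,false),(Cfsg.Spor.Ly.Gen.c3,true),(Cfsg.Spor.Ly.Gen.a,true),(Cfsg.Spor.Ly.Gen.c4,false),(Cfsg.Spor.Ly.Gen.c1,false),(Cfsg.Spor.Ly.Gen.c3,true),(Cfsg.Spor.Ly.Gen.c3,true)],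
   [(Cfsg.Spor.Ly.Gen.a,false),(Cfsg.Spor.Ly.Gen.c4,true),(Cfsg.Spor.Ly.Gen.a,true),(Cfsg.Spor.Ly.Gen.c4,false),(Cfsg.Spor.Ly.Gen.c1,false),(Cfsg.Spor.Ly.Gen.c4,false),(Cfsg.Spor.Ly.Gen.c3,true),(Cfsg.Spor.Ly.Gen.c2,true),(Cfsg.Spor.Ly.Gen.c1,false)],
   [(Cfsg.Spor.Ly.Gen.a,false),(Cfsg.Spor.Ly.Gen.c5,true),(Cfsg.Spor.Ly.Gen.a,true),(Cfsg.Spor.Ly.Gen.c5,false),(Cfsg.Spor.Ly.Gen.c5,false)],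
   [(Cfsg.Spor.Ly.Gen.b,false),(Cfsg.Spor.Ly.Gen.c2,true),(Cfsg.Spor.Ly.Gen.b,true),(Cfsg.Spor.Ly.Gen.c4,true),(Cfsg.Spor.Ly.Gen.c1,true),(Cfsg.Spor.Ly.Gen.c4,true),(Cfsg.Spor.Ly.Gen.c3,false),(Cfsg.Spor.Ly.Gen.c2,false)],
   [(Cfsg.Spor.Ly.Gen.b,false),(Cfsg.Spor.Ly.Gen.c3,true),(Cfsg.Spor.Ly.Gen.b,true),(Cfsg.Spor.Ly.Gen.c3,true),(Cfsg.Spor.Ly.Gen.c3,true),(Cfsg.Spor.Ly.Gen.c4,false),(Cfsg.Spor.Ly.Gen.c1,false),(Cfsg.Spor.Ly.Gen.c1,false)],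
   [(Cfsg.Spor.Ly.Gen.b,false),(Cfsg.Spor.Ly.Gen.c5,true),(Cfsg.Spor.Ly.Gen.b,true),(Cfsg.Spor.Ly.Gen.c5,false)],
   [(Cfsg.Spor.Ly.Gen.e,true),(Cfsg.Spor.Ly.Gen.d,false),(Cfsg.Spor.Ly.Gen.c1,false),(Cfsg.Spor.Ly.Gen.d,false),(Cfsg.Spor.Ly.Gen.b,true),(Cfsg.Spor.Ly.Gen.a,false),(Cfsg.Spor.Ly.Gen.b,false),(Cfsg.Spor.Ly.Gen.c1,false),(Cfsg.Spor.Ly.Gen.d,false),(Cfsg.Spor.Ly.Gen.a,false),(Cfsg.Spor.Ly.Gen.c1,false),(Cfsg.Spor.Ly.Gen.a,true),(Cfsg.Spor.Ly.Gen.c1,false),(Cfsg.Spor.Ly.Gen.a,false),(Cfsg.Spor.Ly.Gen.c1,true),(Cfsg.Spor.Ly.Gen.a,true),(Cfsg.Spor.Ly.Gen.b,true),(Cfsg.Spor.Ly.Gen.b,true)],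
   [(Cfsg.Spor.Ly.Gen.e,true),(Cfsg.Spor.Ly.Gen.e,true)],
   [(Cfsg.Spor.Ly.Gen.e,false),(Cfsg.Spor.Ly.Gen.c1,true),(Cfsg.Spor.Ly.Gen.e,true),(Cfsg.Spor.Ly.Gen.c1,true),(Cfsg.Spor.Ly.Gen.b,false),(Cfsg.Spor.Ly.Gen.c3,false),(Cfsg.Spor.Ly.Gen.b,false)],
   [(Cfsg.Spor.Ly.Gen.e,false),(Cfsg.Spor.Ly.Gen.c3,true),(Cfsg.Spor.Ly.Gen.e,true),(Cfsg.Spor.Ly.Gen.a,true),(Cfsg.Spor.Ly.Gen.c4,true),(Cfsg.Spor.Ly.Gen.c1,true),(Cfsg.Spor.Ly.Gen.c2,false),(Cfsg.Spor.Ly.Gen.a,false),(Cfsg.Spor.Ly.Gen.b,false),(Cfsg.Spor.Ly.Gen.b,false)],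
   [(Cfsg.Spor.Ly.Gen.e,false),(Cfsg.Spor.Ly.Gen.c4,true),(Cfsg.Spor.Ly.Gen.e,true),(Cfsg.Spor.Ly.Gen.c4,false),(Cfsg.Spor.Ly.Gen.c3,true),(Cfsg.Spor.Ly.Gen.b,false),(Cfsg.Spor.Ly.Gen.b,false)],
   [(Cfsg.Spor.Ly.Gen.e,false),(Cfsg.Spor.Ly.Gen.c5,true),(Cfsg.Spor.Ly.Gen.e,true),(Cfsg.Spor.Ly.Gen.c4,true),(Cfsg.Spor.Ly.Gen.c1,false),(Cfsg.Spor.Ly.Gen.c3,true),(Cfsg.Spor.Ly.Gen.c1,false)],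
   [(Cfsg.Spor.Ly.Gen.e,true),(Cfsg.Spor.Ly.Gen.a,true),(Cfsg.Spor.Ly.Gen.a,true),(Cfsg.Spor.Ly.Gen.e,true),(Cfsg.Spor.Ly.Gen.c4,true),(Cfsg.Spor.Ly.Gen.c5,false),(Cfsg.Spor.Ly.Gen.c1,false),(Cfsg.Spor.Ly.Gen.a,false),(Cfsg.Spor.Ly.Gen.b,true),(Cfsg.Spor.Ly.Gen.a,false),(Cfsg.Spor.Ly.Gen.b,false),(Cfsg.Spor.Ly.Gen.b,false),(Cfsg.Spor.Ly.Gen.a,false)],
   [(Cfsg.Spor.Ly.Gen.e,false),(Cfsg.Spor.Ly.Gen.b,true),(Cfsg.Spor.Ly.Gen.e,true),(Cfsg.Spor.Ly.Gen.c4,true),(Cfsg.Spor.Ly.Gen.c4,true),(Cfsg.Spor.Ly.Gen.c3,true),(Cfsg.Spor.Ly.Gen.c1,false)],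
   [(Cfsg.Spor.Ly.Gen.e,true),(Cfsg.Spor.Ly.Gen.a,true),(Cfsg.Spor.Ly.Gen.b,true),(Cfsg.Spor.Ly.Gen.b,true),(Cfsg.Spor.Ly.Gen.a,true),(Cfsg.Spor.Ly.Gen.b,false),(Cfsg.Spor.Ly.Gen.a,true),(Cfsg.Spor.Ly.Gen.e,true),(Cfsg.Spor.Ly.Gen.c4,true),(Cfsg.Spor.Ly.Gen.c5,false),(Cfsg.Spor.Ly.Gen.c1,false),(Cfsg.Spor.Ly.Gen.a,false),(Cfsg.Spor.Ly.Gen.a,false)],
   [(Cfsg.Spor.Ly.Gen.e,true),(Cfsg.Spor.Ly.Gen.c2,true),(Cfsg.Spor.Ly.Gen.e,true),(Cfsg.Spor.Ly.Gen.c2,false),(Cfsg.Spor.Ly.Gen.e,true),(Cfsg.Spor.Ly.Gen.c2,true),(Cfsg.Spor.Ly.Gen.c4,false),(Cfsg.Spor.Ly.Gen.a,true),(Cfsg.Spor.Ly.Gen.c3,true),(Cfsg.Spor.Ly.Gen.a,true),(Cfsg.Spor.Ly.Gen.a,true),(Cfsg.Spor.Ly.Gen.a,true)],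
   [(Cfsg.Spor.Ly.Gen.d,true),(Cfsg.Spor.Ly.Gen.e,false),(Cfsg.Spor.Ly.Gen.b,false),(Cfsg.Spor.Ly.Gen.c2,true),(Cfsg.Spor.Ly.Gen.a,false),(Cfsg.Spor.Ly.Gen.e,false),(Cfsg.Spor.Ly.Gen.a,false),(Cfsg.Spor.Ly.Gen.e,false),(Cfsg.Spor.Ly.Gen.a,false),(Cfsg.Spor.Ly.Gen.c5,true),(Cfsg.Spor.Ly.Gen.c4,true),(Cfsg.Spor.Ly.Gen.c1,true),(Cfsg.Spor.Ly.Gen.b,true),(Cfsg.Spor.Ly.Gen.a,true),(Cfsg.Spor.Ly.Gen.b,false),(Cfsg.Spor.Ly.Gen.b,false),(Cfsg.Spor.Ly.Gen.a,false)],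
   [(Cfsg.Spor.Ly.Gen.d,true),(Cfsg.Spor.Ly.Gen.d,true),(Cfsg.Spor.Ly.Gen.a,false),(Cfsg.Spor.Ly.Gen.a,false),(Cfsg.Spor.Ly.Gen.a,false),(Cfsg.Spor.Ly.Gen.a,false)],
   [(Cfsg.Spor.Ly.Gen.b,false),(Cfsg.Spor.Ly.Gen.d,false),(Cfsg.Spor.Ly.Gen.b,true),(Cfsg.Spor.Ly.Gen.d,true)],
   [(Cfsg.Spor.Ly.Gen.d,false),(Cfsg.Spor.Ly.Gen.a,true),(Cfsg.Spor.Ly.Gen.d,true),(Cfsg.Spor.Ly.Gen.a,false),(Cfsg.Spor.Ly.Gen.a,false),(Cfsg.Spor.Ly.Gen.a,false)],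
   [(Cfsg.Spor.Ly.Gen.d,true),(Cfsg.Spor.Ly.Gen.c5,true),(Cfsg.Spor.Ly.Gen.d,true),(Cfsg.Spor.Ly.Gen.c5,true),(Cfsg.Spor.Ly.Gen.d,true),(Cfsg.Spor.Ly.Gen.c5,true),(Cfsg.Spor.Ly.Gen.d,true),(Cfsg.Spor.Ly.Gen.c5,true),(Cfsg.Spor.Ly.Gen.d,true),(Cfsg.Spor.Ly.Gen.c5,true)],
   [(Cfsg.Spor.Ly.Gen.d,true),(Cfsg.Spor.Ly.Gen.c5,true),(Cfsg.Spor.Ly.Gen.d,true),(Cfsg.Spor.Ly.Gen.c5,false),(Cfsg.Spor.Ly.Gen.d,true),(Cfsg.Spor.Ly.Gen.c5,true),(Cfsg.Spor.Ly.Gen.a,false),(Cfsg.Spor.Ly.Gen.a,false)],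
   [(Cfsg.Spor.Ly.Gen.a1,true),(Cfsg.Spor.Ly.Gen.a,false)],
   [(Cfsg.Spor.Ly.Gen.a2,true),(Cfsg.Spor.Ly.Gen.b,true),(Cfsg.Spor.Ly.Gen.a,false),(Cfsg.Spor.Ly.Gen.b,false)],
   [(Cfsg.Spor.Ly.Gen.a3,true),(Cfsg.Spor.Ly.Gen.b,true),(Cfsg.Spor.Ly.Gen.b,true),(Cfsg.Spor.Ly.Gen.a,false),(Cfsg.Spor.Ly.Gen.b,false),(Cfsg.Spor.Ly.Gen.b,false)],
   [(Cfsg.Spor.Ly.Gen.a4,true),(Cfsg.Spor.Ly.Gen.b,false),(Cfsg.Spor.Ly.Gen.b,false),(Cfsg.Spor.Ly.Gen.a,false),(Cfsg.Spor.Ly.Gen.b,true),(Cfsg.Spor.Ly.Gen.b,true)],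
   [(Cfsg.Spor.Ly.Gen.u,true),(Cfsg.Spor.Ly.Gen.a,false),(Cfsg.Spor.Ly.Gen.a,false)],
   [(Cfsg.Spor.Ly.Gen.x23,true),(Cfsg.Spor.Ly.Gen.d,false)],
   [(Cfsg.Spor.Ly.Gen.x24,true),(Cfsg.Spor.Ly.Gen.d,true)],
   [(Cfsg.Spor.Ly.Gen.x25,true),(Cfsg.Spor.Ly.Gen.b,false),(Cfsg.Spor.Ly.Gen.c,false),(Cfsg.Spor.Ly.Gen.a,true),(Cfsg.Spor.Ly.Gen.b,false),(Cfsg.Spor.Ly.Gen.b,false),(Cfsg.Spor.Ly.Gen.c,true),(Cfsg.Spor.Ly.Gen.d,false),(Cfsg.Spor.Ly.Gen.c,true),(Cfsg.Spor.Ly.Gen.a,true),(Cfsg.Spor.Ly.Gen.c,false),(Cfsg.Spor.Ly.Gen.a,false),(Cfsg.Spor.Ly.Gen.c,true),(Cfsg.Spor.Ly.Gen.b,false),(Cfsg.Spor.Ly.Gen.b,false),(Cfsg.Spor.Ly.Gen.a,true),(Cfsg.Spor.Ly.Gen.b,true),(Cfsg.Spor.Ly.Gen.a,true),(Cfsg.Spor.Ly.Gen.b,false),(Cfsg.Spor.Ly.Gen.b,false)],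
   [(Cfsg.Spor.Ly.Gen.x29,true),(Cfsg.Spor.Ly.Gen.c,false),(Cfsg.Spor.Ly.Gen.b,false),(Cfsg.Spor.Ly.Gen.c,false),(Cfsg.Spor.Ly.Gen.d,false),(Cfsg.Spor.Ly.Gen.b,true),(Cfsg.Spor.Ly.Gen.b,true),(Cfsg.Spor.Ly.Gen.c,false),(Cfsg.Spor.Ly.Gen.d,false),(Cfsg.Spor.Ly.Gen.b,true),(Cfsg.Spor.Ly.Gen.c,false),(Cfsg.Spor.Ly.Gen.b,false),(Cfsg.Spor.Ly.Gen.c,false),(Cfsg.Spor.Ly.Gen.a,false),(Cfsg.Spor.Ly.Gen.c,true),(Cfsg.Spor.Ly.Gen.b,false),(Cfsg.Spor.Ly.Gen.b,false),(Cfsg.Spor.Ly.Gen.a,true),(Cfsg.Spor.Ly.Gen.b,false),(Cfsg.Spor.Ly.Gen.b,false),(Cfsg.Spor.Ly.Gen.a,true),(Cfsg.Spor.Ly.Gen.b,false),(Cfsg.Spor.Ly.Gen.a,false)],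
   [(Cfsg.Spor.Ly.Gen.x47,true),(Cfsg.Spor.Ly.Gen.d,true),(Cfsg.Spor.Ly.Gen.c,true),(Cfsg.Spor.Ly.Gen.b,false),(Cfsg.Spor.Ly.Gen.a,true),(Cfsg.Spor.Ly.Gen.c,true),(Cfsg.Spor.Ly.Gen.a,true),(Cfsg.Spor.Ly.Gen.d,true),(Cfsg.Spor.Ly.Gen.c,true)],
   [(Cfsg.Spor.Ly.Gen.x96,true),(Cfsg.Spor.Ly.Gen.d,false),(Cfsg.Spor.Ly.Gen.b,false)],
   [(Cfsg.Spor.Ly.Gen.x129,true),(Cfsg.Spor.Ly.Gen.b,true),(Cfsg.Spor.Ly.Gen.d,true)],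
   [(Cfsg.Spor.Ly.Gen.x162,true),(Cfsg.Spor.Ly.Gen.a,false),(Cfsg.Spor.Ly.Gen.b,false),(Cfsg.Spor.Ly.Gen.c,true),(Cfsg.Spor.Ly.Gen.a,false),(Cfsg.Spor.Ly.Gen.b,true),(Cfsg.Spor.Ly.Gen.c,true),(Cfsg.Spor.Ly.Gen.b,false),(Cfsg.Spor.Ly.Gen.a,true),(Cfsg.Spor.Ly.Gen.b,true),(Cfsg.Spor.Ly.Gen.a,true)],
   [(Cfsg.Spor.Ly.Gen.x163,true),(Cfsg.Spor.Ly.Gen.b,false),(Cfsg.Spor.Ly.Gen.c,false),(Cfsg.Spor.Ly.Gen.b,false),(Cfsg.Spor.Ly.Gen.a,true),(Cfsg.Spor.Ly.Gen.c,false),(Cfsg.Spor.Ly.Gen.a,false),(Cfsg.Spor.Ly.Gen.b,true),(Cfsg.Spor.Ly.Gen.b,true)],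
   [(Cfsg.Spor.Ly.Gen.x164,true),(Cfsg.Spor.Ly.Gen.a,false),(Cfsg.Spor.Ly.Gen.b,false),(Cfsg.Spor.Ly.Gen.a,false),(Cfsg.Spor.Ly.Gen.c,false),(Cfsg.Spor.Ly.Gen.a,true),(Cfsg.Spor.Ly.Gen.b,true),(Cfsg.Spor.Ly.Gen.a,true)],
   [(Cfsg.Spor.Ly.Gen.x165,true),(Cfsg.Spor.Ly.Gen.b,false),(Cfsg.Spor.Ly.Gen.a,false),(Cfsg.Spor.Ly.Gen.b,true),(Cfsg.Spor.Ly.Gen.c,false),(Cfsg.Spor.Ly.Gen.b,false),(Cfsg.Spor.Ly.Gen.a,true),(Cfsg.Spor.Ly.Gen.b,true)],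
   [(Cfsg.Spor.Ly.Gen.x166,true),(Cfsg.Spor.Ly.Gen.c,true),(Cfsg.Spor.Ly.Gen.b,true),(Cfsg.Spor.Ly.Gen.b,true),(Cfsg.Spor.Ly.Gen.c,false),(Cfsg.Spor.Ly.Gen.a,false),(Cfsg.Spor.Ly.Gen.b,false),(Cfsg.Spor.Ly.Gen.c,false),(Cfsg.Spor.Ly.Gen.b,true),(Cfsg.Spor.Ly.Gen.a,true),(Cfsg.Spor.Ly.Gen.b,false),(Cfsg.Spor.Ly.Gen.b,false)],
   [(Cfsg.Spor.Ly.Gen.x167,true),(Cfsg.Spor.Ly.Gen.a,true),(Cfsg.Spor.Ly.Gen.a,true),(Cfsg.Spor.Ly.Gen.a,true)],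
   [(Cfsg.Spor.Ly.Gen.x168,true),(Cfsg.Spor.Ly.Gen.a,true),(Cfsg.Spor.Ly.Gen.a,true),(Cfsg.Spor.Ly.Gen.b,true),(Cfsg.Spor.Ly.Gen.a,true),(Cfsg.Spor.Ly.Gen.b,false)],
   [(Cfsg.Spor.Ly.Gen.x169,true),(Cfsg.Spor.Ly.Gen.a,true),(Cfsg.Spor.Ly.Gen.b,true),(Cfsg.Spor.Ly.Gen.b,true),(Cfsg.Spor.Ly.Gen.a,false),(Cfsg.Spor.Ly.Gen.b,false),(Cfsg.Spor.Ly.Gen.b,false),(Cfsg.Spor.Ly.Gen.a,false)],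
   [(Cfsg.Spor.Ly.Gen.x364,true),(Cfsg.Spor.Ly.Gen.b,true),(Cfsg.Spor.Ly.Gen.a,false),(Cfsg.Spor.Ly.Gen.b,false),(Cfsg.Spor.Ly.Gen.a,false),(Cfsg.Spor.Ly.Gen.b,true),(Cfsg.Spor.Ly.Gen.a,false),(Cfsg.Spor.Ly.Gen.c,true),(Cfsg.Spor.Ly.Gen.a,true),(Cfsg.Spor.Ly.Gen.b,true),(Cfsg.Spor.Ly.Gen.c,true),(Cfsg.Spor.Ly.Gen.b,false),(Cfsg.Spor.Ly.Gen.d,true),(Cfsg.Spor.Ly.Gen.c,true),(Cfsg.Spor.Ly.Gen.b,false),(Cfsg.Spor.Ly.Gen.a,true),(Cfsg.Spor.Ly.Gen.c,true),(Cfsg.Spor.Ly.Gen.b,true),(Cfsg.Spor.Ly.Gen.d,false),(Cfsg.Spor.Ly.Gen.a,true)],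
   [(Cfsg.Spor.Ly.Gen.x365,true),(Cfsg.Spor.Ly.Gen.d,true),(Cfsg.Spor.Ly.Gen.b,true),(Cfsg.Spor.Ly.Gen.c,false),(Cfsg.Spor.Ly.Gen.a,true),(Cfsg.Spor.Ly.Gen.c,false),(Cfsg.Spor.Ly.Gen.a,false),(Cfsg.Spor.Ly.Gen.c,false),(Cfsg.Spor.Ly.Gen.d,false),(Cfsg.Spor.Ly.Gen.c,true),(Cfsg.Spor.Ly.Gen.c,true),(Cfsg.Spor.Ly.Gen.a,true),(Cfsg.Spor.Ly.Gen.b,false),(Cfsg.Spor.Ly.Gen.c,true),(Cfsg.Spor.Ly.Gen.b,false),(Cfsg.Spor.Ly.Gen.c,false),(Cfsg.Spor.Ly.Gen.a,true),(Cfsg.Spor.Ly.Gen.b,true),(Cfsg.Spor.Ly.Gen.b,true),(Cfsg.Spor.Ly.Gen.a,false)],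
   [(Cfsg.Spor.Ly.Gen.x366,true),(Cfsg.Spor.Ly.Gen.c,false),(Cfsg.Spor.Ly.Gen.b,false),(Cfsg.Spor.Ly.Gen.c,false),(Cfsg.Spor.Ly.Gen.d,false),(Cfsg.Spor.Ly.Gen.b,true),(Cfsg.Spor.Ly.Gen.b,true),(Cfsg.Spor.Ly.Gen.c,false),(Cfsg.Spor.Ly.Gen.d,false),(Cfsg.Spor.Ly.Gen.b,false),(Cfsg.Spor.Ly.Gen.c,false),(Cfsg.Spor.Ly.Gen.b,false),(Cfsg.Spor.Ly.Gen.b,false),(Cfsg.Spor.Ly.Gen.c,false),(Cfsg.Spor.Ly.Gen.b,true),(Cfsg.Spor.Ly.Gen.a,true),(Cfsg.Spor.Ly.Gen.b,true),(Cfsg.Spor.Ly.Gen.b,true),(Cfsg.Spor.Ly.Gen.a,true),(Cfsg.Spor.Ly.Gen.b,true),(Cfsg.Spor.Ly.Gen.a,false),(Cfsg.Spor.Ly.Gen.b,false)],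
   [(Cfsg.Spor.Ly.Gen.x367,true),(Cfsg.Spor.Ly.Gen.b,true),(Cfsg.Spor.Ly.Gen.a,true),(Cfsg.Spor.Ly.Gen.b,false),(Cfsg.Spor.Ly.Gen.a,false),(Cfsg.Spor.Ly.Gen.b,false),(Cfsg.Spor.Ly.Gen.b,false),(Cfsg.Spor.Ly.Gen.a,false),(Cfsg.Spor.Ly.Gen.b,false),(Cfsg.Spor.Ly.Gen.c,true),(Cfsg.Spor.Ly.Gen.b,true),(Cfsg.Spor.Ly.Gen.b,true),(Cfsg.Spor.Ly.Gen.c,true),(Cfsg.Spor.Ly.Gen.b,true),(Cfsg.Spor.Ly.Gen.d,true),(Cfsg.Spor.Ly.Gen.c,true),(Cfsg.Spor.Ly.Gen.b,false),(Cfsg.Spor.Ly.Gen.b,false),(Cfsg.Spor.Ly.Gen.d,true),(Cfsg.Spor.Ly.Gen.c,true),(Cfsg.Spor.Ly.Gen.b,true),(Cfsg.Spor.Ly.Gen.c,true)],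
   [(Cfsg.Spor.Ly.Gen.x368,true),(Cfsg.Spor.Ly.Gen.b,true),(Cfsg.Spor.Ly.Gen.b,true),(Cfsg.Spor.Ly.Gen.a,true),(Cfsg.Spor.Ly.Gen.b,true),(Cfsg.Spor.Ly.Gen.c,true),(Cfsg.Spor.Ly.Gen.b,true),(Cfsg.Spor.Ly.Gen.b,true),(Cfsg.Spor.Ly.Gen.c,false),(Cfsg.Spor.Ly.Gen.a,false),(Cfsg.Spor.Ly.Gen.c,true),(Cfsg.Spor.Ly.Gen.a,true),(Cfsg.Spor.Ly.Gen.d,true),(Cfsg.Spor.Ly.Gen.c,true),(Cfsg.Spor.Ly.Gen.a,false),(Cfsg.Spor.Ly.Gen.b,true),(Cfsg.Spor.Ly.Gen.c,true),(Cfsg.Spor.Ly.Gen.a,false),(Cfsg.Spor.Ly.Gen.d,true),(Cfsg.Spor.Ly.Gen.c,true),(Cfsg.Spor.Ly.Gen.a,true)],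
   [(Cfsg.Spor.Ly.Gen.x369,true),(Cfsg.Spor.Ly.Gen.b,true),(Cfsg.Spor.Ly.Gen.a,false),(Cfsg.Spor.Ly.Gen.b,true),(Cfsg.Spor.Ly.Gen.b,true),(Cfsg.Spor.Ly.Gen.a,false),(Cfsg.Spor.Ly.Gen.b,true),(Cfsg.Spor.Ly.Gen.c,true),(Cfsg.Spor.Ly.Gen.b,true),(Cfsg.Spor.Ly.Gen.a,true),(Cfsg.Spor.Ly.Gen.b,false),(Cfsg.Spor.Ly.Gen.d,true),(Cfsg.Spor.Ly.Gen.c,true),(Cfsg.Spor.Ly.Gen.b,true),(Cfsg.Spor.Ly.Gen.a,true),(Cfsg.Spor.Ly.Gen.b,false),(Cfsg.Spor.Ly.Gen.d,true),(Cfsg.Spor.Ly.Gen.c,true),(Cfsg.Spor.Ly.Gen.a,true)],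
   [(Cfsg.Spor.Ly.Gen.x370,true),(Cfsg.Spor.Ly.Gen.a,true),(Cfsg.Spor.Ly.Gen.b,false),(Cfsg.Spor.Ly.Gen.a,true),(Cfsg.Spor.Ly.Gen.b,true),(Cfsg.Spor.Ly.Gen.b,true),(Cfsg.Spor.Ly.Gen.a,true),(Cfsg.Spor.Ly.Gen.c,false),(Cfsg.Spor.Ly.Gen.a,true),(Cfsg.Spor.Ly.Gen.b,true),(Cfsg.Spor.Ly.Gen.a,false),(Cfsg.Spor.Ly.Gen.d,true),(Cfsg.Spor.Ly.Gen.c,true),(Cfsg.Spor.Ly.Gen.a,true),(Cfsg.Spor.Ly.Gen.c,false),(Cfsg.Spor.Ly.Gen.b,false),(Cfsg.Spor.Ly.Gen.c,false),(Cfsg.Spor.Ly.Gen.a,false),(Cfsg.Spor.Ly.Gen.d,true)],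
   [(Cfsg.Spor.Ly.Gen.x371,true),(Cfsg.Spor.Ly.Gen.b,false),(Cfsg.Spor.Ly.Gen.a,true),(Cfsg.Spor.Ly.Gen.b,true),(Cfsg.Spor.Ly.Gen.a,true),(Cfsg.Spor.Ly.Gen.b,true),(Cfsg.Spor.Ly.Gen.c,false),(Cfsg.Spor.Ly.Gen.a,false),(Cfsg.Spor.Ly.Gen.c,false),(Cfsg.Spor.Ly.Gen.a,true),(Cfsg.Spor.Ly.Gen.c,false),(Cfsg.Spor.Ly.Gen.d,true),(Cfsg.Spor.Ly.Gen.c,true),(Cfsg.Spor.Ly.Gen.b,false),(Cfsg.Spor.Ly.Gen.c,false),(Cfsg.Spor.Ly.Gen.a,true),(Cfsg.Spor.Ly.Gen.c,true)],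
   [(Cfsg.Spor.Ly.Gen.z,false),(Cfsg.Spor.Ly.Gen.c1,true),(Cfsg.Spor.Ly.Gen.z,true),(Cfsg.Spor.Ly.Gen.x162,false)],
   [(Cfsg.Spor.Ly.Gen.z,false),(Cfsg.Spor.Ly.Gen.c2,true),(Cfsg.Spor.Ly.Gen.z,true),(Cfsg.Spor.Ly.Gen.x163,false)],
   [(Cfsg.Spor.Ly.Gen.z,false),(Cfsg.Spor.Ly.Gen.c3,true),(Cfsg.Spor.Ly.Gen.z,true),(Cfsg.Spor.Ly.Gen.x164,false)],
   [(Cfsg.Spor.Ly.Gen.z,false),(Cfsg.Spor.Ly.Gen.c4,true),(Cfsg.Spor.Ly.Gen.z,true),(Cfsg.Spor.Ly.Gen.x165,false)],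
   [(Cfsg.Spor.Ly.Gen.z,false),(Cfsg.Spor.Ly.Gen.c5,true),(Cfsg.Spor.Ly.Gen.z,true),(Cfsg.Spor.Ly.Gen.x166,false)],
   [(Cfsg.Spor.Ly.Gen.z,false),(Cfsg.Spor.Ly.Gen.a1,true),(Cfsg.Spor.Ly.Gen.z,true),(Cfsg.Spor.Ly.Gen.x167,false)],
   [(Cfsg.Spor.Ly.Gen.z,false),(Cfsg.Spor.Ly.Gen.a2,true),(Cfsg.Spor.Ly.Gen.z,true),(Cfsg.Spor.Ly.Gen.x168,false)],
   [(Cfsg.Spor.Ly.Gen.z,false),(Cfsg.Spor.Ly.Gen.a3,true),(Cfsg.Spor.Ly.Gen.z,true),(Cfsg.Spor.Ly.Gen.x169,false)],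
   [(Cfsg.Spor.Ly.Gen.z,true),(Cfsg.Spor.Ly.Gen.z,true),(Cfsg.Spor.Ly.Gen.u,false)],
   [(Cfsg.Spor.Ly.Gen.a4,true),(Cfsg.Spor.Ly.Gen.z,true),(Cfsg.Spor.Ly.Gen.a4,true),(Cfsg.Spor.Ly.Gen.z,true),(Cfsg.Spor.Ly.Gen.a4,true),(Cfsg.Spor.Ly.Gen.z,true),(Cfsg.Spor.Ly.Gen.u,true)],
   [(Cfsg.Spor.Ly.Gen.x47,true),(Cfsg.Spor.Ly.Gen.z,true),(Cfsg.Spor.Ly.Gen.x364,true),(Cfsg.Spor.Ly.Gen.z,true),(Cfsg.Spor.Ly.Gen.x368,true),(Cfsg.Spor.Ly.Gen.z,true)],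
   [(Cfsg.Spor.Ly.Gen.z,false),(Cfsg.Spor.Ly.Gen.x24,true),(Cfsg.Spor.Ly.Gen.z,false),(Cfsg.Spor.Ly.Gen.x369,true),(Cfsg.Spor.Ly.Gen.z,true),(Cfsg.Spor.Ly.Gen.x23,true),(Cfsg.Spor.Ly.Gen.z,true),(Cfsg.Spor.Ly.Gen.x29,true)],
   [(Cfsg.Spor.Ly.Gen.z,true),(Cfsg.Spor.Ly.Gen.x366,true),(Cfsg.Spor.Ly.Gen.z,true),(Cfsg.Spor.Ly.Gen.x365,true),(Cfsg.Spor.Ly.Gen.z,false),(Cfsg.Spor.Ly.Gen.x367,true),(Cfsg.Spor.Ly.Gen.z,false),(Cfsg.Spor.Ly.Gen.x370,true)],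
   [(Cfsg.Spor.Ly.Gen.z,true),(Cfsg.Spor.Ly.Gen.x96,true),(Cfsg.Spor.Ly.Gen.z,true),(Cfsg.Spor.Ly.Gen.x25,true),(Cfsg.Spor.Ly.Gen.z,false),(Cfsg.Spor.Ly.Gen.x129,true),(Cfsg.Spor.Ly.Gen.z,false),(Cfsg.Spor.Ly.Gen.x371,true)]]

theorem extra_eq : Cfsg.Spor.Ly.extra = extraW.map FreeGroup.mk := rfl

/-- The words of the relators, in the order of application. -/
def rels : List (List Nat) :=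
  [[0,0,0,0,0,0,0,0],
   [1,1,1,1,1],
   [1,0,1,0,1,0,1,0],
   [1,0,0,40,39,39],
   [1,0,40,39,1,0,40,39,1,0,40,39],
   [41,10],
   [0,41,39,11],
   [1,41,40,12],
   [40,41,1,13],
   [10,11,49,50,14],
   [10,10,10,10,10],
   [14,14,14,14,14],
   [14,10,53,49],
   [14,11,53,50],
   [14,12,53,51],
   [14,13,53,52],
   [14,14,12,10,51,49],
   [53,53,13,10,52,49],
   [14,12,11,51,50],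
   [13,11,52,50],
   [14,13,12,52,51],
   [10,10,0,11,39],
   [12,12,49,52,0,12,39],
   [49,11,12,52,49,52,0,13,39],
   [53,53,0,14,39],
   [50,51,13,10,13,1,11,40],
   [49,49,52,12,12,1,12,40],
   [53,1,14,40],
   [1,1,0,10,39,49,0,49,39,42,49,40,39,1,42,49,42,5],
   [5,5],
   [40,51,40,10,5,10,44],
   [40,40,39,50,10,13,0,5,12,44],
   [40,40,12,52,5,13,44],
   [49,12,49,13,5,14,44],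
   [39,40,40,39,1,39,49,53,13,5,0,0,5],
   [49,12,13,13,5,1,44],
   [39,39,49,53,13,5,0,40,0,1,1,0,5],
   [0,0,0,12,0,52,11,5,50,5,11,5],
   [39,40,40,0,1,10,13,14,39,44,39,44,39,11,40,44,3],
   [39,39,39,39,3,3],
   [3,1,42,40],
   [39,39,39,3,0,42],
   [14,3,14,3,14,3,14,3,14,3],
   [39,39,14,3,53,3,14,3],
   [39,6],
   [40,39,1,7],
   [40,40,39,1,1,8],
   [1,1,39,40,40,9],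
   [39,39,15],
   [42,16],
   [3,17],
   [40,40,0,1,0,40,40,2,39,41,0,2,42,2,40,40,0,41,40,18],
   [39,40,0,40,40,0,40,40,2,39,41,40,41,1,42,41,1,1,42,41,40,41,19],
   [2,3,0,2,0,40,2,3,20],
   [40,42,21],
   [3,1,22],
   [0,1,0,40,2,1,39,2,40,39,23],
   [1,1,39,41,0,40,41,40,24],
   [0,1,0,41,39,40,39,25],
   [1,0,40,41,1,39,40,26],
   [40,40,0,1,41,40,39,41,1,1,2,27],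
   [0,0,0,28],
   [40,0,1,0,0,29],
   [39,40,40,39,1,1,0,30],
   [0,42,1,2,0,40,2,3,40,2,1,0,2,39,1,39,40,39,1,31],
   [39,1,1,0,41,40,2,40,0,2,2,42,41,39,41,0,41,1,3,32],
   [40,39,1,0,1,1,0,1,41,40,40,41,40,42,41,1,1,42,41,40,41,33],
   [2,1,2,3,40,40,2,3,1,2,1,1,2,40,39,40,40,39,40,0,1,34],
   [0,2,3,39,2,1,39,2,3,0,2,39,41,1,1,2,1,0,1,1,35],
   [0,2,3,40,0,1,2,3,40,0,1,2,1,39,1,1,39,1,36],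
   [3,39,41,40,41,0,2,3,39,1,0,41,0,1,1,0,40,0,37],
   [2,0,41,40,2,3,41,0,41,39,41,1,0,1,0,40,38],
   [62,4,10,43],
   [63,4,11,43],
   [64,4,12,43],
   [65,4,13,43],
   [66,4,14,43],
   [67,4,6,43],
   [68,4,7,43],
   [69,4,8,43],
   [54,4,4],
   [15,4,9,4,9,4,9],
   [4,35,4,31,4,20],
   [19,4,16,4,36,43,17,43],
   [37,43,34,43,32,4,33,4],
   [38,43,22,43,18,4,21,4]]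

theorem hcover : chkCover K Cfsg.Spor.Ly.edges extraW rels = true := by decide +kernel

theorem hsound : chkSound K Cfsg.Spor.Ly.edges extraW rels = true := by decide +kernel

theorem hR : ∀ r ∈ Rel, ∃ L, r = FreeGroup.mk L ∧ ∃ j, rotN (K.word L) j ∈ rels :=
  hR_of_chk (K := K) (edges := Cfsg.Spor.Ly.edges) (rels := rels) extra_eq hcover

theorem hrels : ∀ l ∈ rels, ∃ L, FreeGroup.mk L ∈ Rel ∧ l = K.word L :=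
  hrels_of_chk (K := K) (edges := Cfsg.Spor.Ly.edges) (rels := rels) extra_eq hsound

theorem valid : K.Valid (R := Rel) where
  col_lt := by intro x; cases x <;> decide
  gen_col := by intro x; cases x <;> rfl
  sgn_col := by intro x; cases x <;> rfl
  inv_lt := by decide +kernel
  col_gen := by decide +kernel
  inv_true := by decide +kernel
  inv_false := by decide +kernel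
  invol := by
    intro c hc hi
    exfalso
    have h : ∀ c, c < 78 → invF c ≠ c := by decide +kernel
    exact h c hc hi

end Cfsg.Agent.Lib.DCE.Ly.Cols
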