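import Cfsg.Agent.Lib.DCE.Ly.Cols
import Cfsg.Agent.Lib.TC.Iso

/-! The presentation of the Lyons group on the letters `a, b, c, d, e, z`: the other generators are words. -/

namespace Cfsg.Agent.Lib.DCE.Ly.Exp

open Cfsg.Agent.Lib.TC.Core Cfsg.Agent.Lib.TC.Pres Cfsg.Agent.Lib.TC.Main Cfsg.Agent.Lib.TC.Chain
  Cfsg.Agent.Lib.TC.Iso Cfsg.Agent.Lib.DCE.Ly.Cols

set_option maxRecDepth 100000

/-- The group. -/
abbrev Γ : Type := PresentedGroup Rel

/-- The columns as elements. -/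
def E (c : Nat) : Γ := K.E Rel c

/-- The inverse of a letter: `0, …, 5` are `a, b, c, d, e, z`, and `6, …, 11` their inverses. -/
def inv12 (c : Nat) : Nat := cond (Nat.blt c 6) (c + 6) (c - 6)

/-- The column of a letter. -/
def c12 (c : Nat) : Nat := [0,1,2,3,5,4,39,40,41,42,44,43].getD c 0

/-- The letters as elements. -/
def L (c : Nat) : Γ := E (c12 c)

/-- The table of the words of the columns. -/
def expT : List (List Nat) :=
  [[0],
   [1],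
   [2],
   [3],
   [5],
   [4],
   [0],
   [7,0,1],
   [7,7,0,1,1],
   [1,1,0,7,7],
   [2],
   [0,2,6],
   [1,2,7],
   [7,2,1],
   [0,2,6,2,0,8,6,8],
   [0,0],
   [3],
   [9],
   [1,2,6,1,1,8,3,8,6,2,0,8,1,1,6,7,6,1,1],
   [2,1,2,3,7,7,2,3,7,2,1,2,0,8,1,1,6,1,1,6,1,0],
   [9,8,1,6,8,6,9,8],
   [3,1],
   [7,9],
   [0,1,8,0,7,8,1,6,7,6],
   [1,2,1,6,2,0,7,7],
   [0,1,0,2,6,7,6],
   [1,0,7,2,1,6,7],
   [8,7,7,2,0,1,2,7,6,1,1],
   [6,6,6],
   [6,6,7,6,1],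
   [6,7,7,0,1,1,0],
   [7,0,1,0,7,0,8,6,7,8,1,9,8,1,6,8,7,3,6],
   [9,7,2,6,2,0,2,3,8,8,6,1,8,1,2,6,7,7,0],
   [2,1,2,3,7,7,2,3,1,2,1,1,2,7,6,7,7,6,7,0,1],
   [7,6,1,0,1,1,0,1,8,7,7,8,7,9,8,1,1,9,8,7,8],
   [7,7,6,7,8,7,7,2,0,8,6,9,8,0,7,8,0,9,8,6],
   [7,0,7,7,0,7,8,7,6,1,9,8,7,6,1,9,8,6],
   [6,1,6,7,7,6,2,6,7,0,9,8,6,2,1,2,0,9],
   [1,6,7,6,7,2,0,2,6,2,9,8,1,2,6,8],
   [6],
   [7],
   [8],
   [9],
   [11],
   [10],
   [6],
   [7,6,1],
   [7,7,6,1,1],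
   [1,1,6,7,7],
   [8],
   [0,8,6],
   [1,8,7],
   [7,8,1],
   [2,0,2,6,8,0,8,6],
   [6,6],
   [9],
   [3],
   [7,7,0,1,0,7,7,2,6,8,0,2,9,2,7,7,0,8,7],
   [6,7,0,7,7,0,7,7,2,6,8,7,8,1,9,8,1,1,9,8,7,8],
   [2,3,0,2,0,7,2,3],
   [7,9],
   [3,1],
   [0,1,0,7,2,1,6,2,7,6],
   [1,1,6,8,0,7,8,7],
   [0,1,0,8,6,7,6],
   [1,0,7,8,1,6,7],
   [7,7,0,1,8,7,6,8,1,1,2],
   [0,0,0],
   [7,0,1,0,0],
   [6,7,7,6,1,1,0],
   [0,9,1,2,0,7,2,3,7,2,1,0,2,6,1,6,7,6,1],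
   [6,1,1,0,8,7,2,7,0,2,2,9,8,6,8,0,8,1,3],
   [7,6,1,0,1,1,0,1,8,7,7,8,7,9,8,1,1,9,8,7,8],
   [2,1,2,3,7,7,2,3,1,2,1,1,2,7,6,7,7,6,7,0,1],
   [0,2,3,6,2,1,6,2,3,0,2,6,8,1,1,2,1,0,1,1],
   [0,2,3,7,0,1,2,3,7,0,1,2,1,6,1,1,6,1],
   [3,6,8,7,8,0,2,3,6,1,0,8,0,1,1,0,7,0],
   [2,0,8,7,2,3,8,0,8,6,8,1,0,1,0,7]]

/-- The word of a column. -/
def exp (c : Nat) : List Nat := expT.getD c []

/-- The table of the ranks of the definitions. -/
def rankT : List Nat := [0,0,0,0,0,0,6,7,8,9,1,2,3,4,5,10,11,12,13,14,15,16,17,18,19,20,21,22,23,24,25,26,27,28,29,30,31,32,33,0,0,0,0,0,0,6,7,8,9,1,2,3,4,5,10,11,12,13,14,15,16,17,18,19,20,21,22,23,24,25,26,27,28,29,30,31,32,33]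

/-- The rank of the definition of a column. -/
def rank (c : Nat) : Nat := rankT.getD c 0

/-- The index of the relator with the definition of a column. -/
def defI (c : Nat) : Nat := [0,0,0,0,0,0,44,45,46,47,5,6,7,8,9,48,49,50,51,52,53,54,55,56,57,58,59,60,61,62,63,64,65,66,67,68,69,70,71].getD c 0

/-- The relators on the letters. -/
def relsExp : List (List Nat) :=
  [[0,0,0,0,0,0,0,0],
   [1,1,1,1,1],
   [1,0,1,0,1,0,1,0],
   [1,0,0,7,6,6],
   [1,0,7,6,1,0,7,6,1,0,7,6],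
   [2,2,2,2,2],
   [0,2,6,2,0,8,6,8,0,2,6,2,0,8,6,8,0,2,6,2,0,8,6,8,0,2,6,2,0,8,6,8,0,2,6,2,0,8,6,8],
   [0,2,6,2,0,8,6,2,0,2,6,8,0,8,6,8],
   [0,2,6,2,0,8,6,8,0,2,6,2,0,2,6,8,0,8,8,6],
   [0,2,6,2,0,8,6,8,1,2,7,2,0,2,6,8,0,8,6,1,8,7],
   [0,2,6,2,0,8,6,8,7,2,1,2,0,2,6,8,0,8,6,7,8,1],
   [0,2,6,2,0,8,6,8,0,2,6,2,0,8,6,8,1,2,7,2,1,8,7,8],
   [2,0,2,6,8,0,8,6,2,0,2,6,8,0,8,6,7,2,1,2,7,8,1,8],
   [0,2,6,2,0,8,6,8,1,2,7,0,2,6,1,8,7,0,8,6],
   [7,2,1,0,2,6,7,8,1,0,8,6],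
   [0,2,6,2,0,8,6,8,7,2,1,1,2,7,7,8,1,1,8,7],
   [2,2,0,0,2,6,6],
   [1,2,2,7,8,7,8,1,0,1,2,7,6],
   [8,0,2,6,1,2,7,7,8,1,8,7,8,1,0,7,2,1,6],
   [2,0,2,6,8,0,8,6,2,0,2,6,8,0,8,0,2,6,2,0,8,6,8,6],
   [0,8,6,1,8,7,7,2,1,2,7,2,1,1,0,2,6,7],
   [8,8,7,8,1,1,2,2,1,2,7,7],
   [2,0,2,6,8,0,8,6,1,0,2,6,2,0,8,6,8,7],
   [1,1,0,2,6,8,0,8,6,9,8,7,6,1,9,8,9,4],
   [4,4],
   [8,7,7,2,4,2,10],
   [7,7,8,6,2,7,2,1,0,4,1,2,7,10],
   [7,2,7,7,8,1,4,7,2,1,10],
   [8,1,2,7,8,7,2,1,4,0,2,6,2,0,8,6,8,10],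
   [6,7,7,6,1,2,6,8,0,8,6,7,2,1,4,0,0,4],
   [8,1,2,7,7,2,2,1,4,1,10],
   [6,2,6,8,0,8,6,7,2,1,4,0,7,0,1,1,0,4],
   [0,0,0,1,2,7,0,7,8,1,0,2,6,4,0,8,6,4,0,2,6,4],
   [6,7,7,0,1,2,7,2,1,0,2,6,2,0,8,6,8,6,10,6,10,2,6,7,10,3],
   [6,6,6,6,3,3],
   [3,1,9,7],
   [6,6,6,3,0,9],
   [0,2,6,2,0,8,6,8,3,0,2,6,2,0,8,6,8,3,0,2,6,2,0,8,6,8,3,0,2,6,2,0,8,6,8,3,0,2,6,2,0,8,6,8,3],
   [6,2,6,2,0,8,6,8,3,2,0,2,6,8,0,8,6,3,0,2,6,2,0,8,6,8,3],
   [0,1,0,7,2,1,6,2,7,6,5,2,11],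
   [1,1,6,8,0,7,8,7,5,0,2,6,11],
   [0,1,0,8,6,7,6,5,1,2,7,11],
   [1,0,7,8,1,6,7,5,7,2,1,11],
   [7,7,0,1,8,7,6,8,1,1,2,5,0,2,6,2,0,8,6,8,11],
   [0,0,0,5,0,11],
   [7,0,1,0,0,5,7,0,1,11],
   [6,7,7,6,1,1,0,5,7,7,0,1,1,11],
   [6,6,5,5],
   [0,0,5,1,1,0,7,7,5,1,1,0,7,7,5,1,1,0,7,7],
   [5,7,7,6,7,8,7,7,2,0,8,6,9,8,0,7,8,0,9,8,6,5,7,0,1,0,7,0,8,6,7,8,1,9,8,1,6,8,7,3,6,5,9,8,1,6,8,6,9,8],
   [2,1,2,3,7,7,2,3,7,2,1,2,0,8,1,1,6,1,1,6,1,0,5,3,5,7,0,7,7,0,7,8,7,6,1,9,8,7,6,1,9,8,6,11,9,11],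
   [6,1,6,7,7,6,2,6,7,0,9,8,6,2,1,2,0,9,11,7,6,1,0,1,1,0,1,8,7,7,8,7,9,8,1,1,9,8,7,8,11,9,7,2,6,2,0,2,3,8,8,6,1,8,1,2,6,7,7,0,5,2,1,2,3,7,7,2,3,1,2,1,1,2,7,6,7,7,6,7,0,1,5],
   [1,6,7,6,7,2,0,2,6,2,9,8,1,2,6,8,11,7,9,11,1,2,6,1,1,8,3,8,6,2,0,8,1,1,6,7,6,1,1,5,3,1,5]]

/-- Free reduction, with a stack. -/
def redAux : List Nat → List Nat → List Nat
  | s, [] => s.reverse
  | [], x :: l => redAux [x] l
  | y :: s, x :: l => if y = inv12 x then redAux s l else redAux (x :: y :: s) l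

/-- Free reduction. -/
def redW (l : List Nat) : List Nat := redAux [] l

section red

variable {G : Type*} [Group G] (F : Nat → G) (hF : ∀ c, c < 12 → F (inv12 c) = (F c)⁻¹)

include hF in
theorem prodA_redAux (l : List Nat) (hl : ∀ z ∈ l, z < 12) (s : List Nat) :
    prodA F (redAux s l) = prodA F (s.reverse ++ l) := by
  induction l generalizing s with
  | nil => simp [redAux]
  | cons x l ih =>
    have hl' : ∀ z ∈ l, z < 12 := fun z hz => hl z (by simp [hz])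
    cases s with
    | nil =>
      simp only [redAux, List.reverse_nil, List.nil_append]
      rw [ih hl']
      simp
    | cons y s =>
      simp only [redAux]
      split_ifs with h
      · rw [ih hl']
        have h1 : (y :: s).reverse ++ x :: l = s.reverse ++ (y :: x :: l) := by simp
        rw [h1, prodA_append, prodA_append, prodA_cons, prodA_cons, h, hF x (hl x (by simp))]
        simp [mul_assoc]
      · rw [ih hl']
        congr 1
        simp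

include hF in
theorem prodA_redW (l : List Nat) (hl : ∀ z ∈ l, z < 12) : prodA F (redW l) = prodA F l := by
  rw [redW, prodA_redAux F hF l hl]
  simp

theorem prodA_flatMap (e : Nat → List Nat) (l : List Nat) :
    prodA F (l.flatMap e) = prodA (fun c => prodA F (e c)) l := by
  induction l with
  | nil => rfl
  | cons z l ih =>
    rw [List.flatMap_cons, prodA_append, ih, prodA_cons]

end red

theorem c12_inv : ∀ c, c < 12 → c12 (inv12 c) = invF (c12 c) := by decide +kernel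

theorem c12_lt : ∀ c, c < 12 → c12 c < 78 := by decide +kernel

theorem L_inv : ∀ c, c < 12 → L (inv12 c) = (L c)⁻¹ := by
  intro c hc
  have h := (Cols.E_inv valid (c12 c) (c12_lt c hc)).2
  change K.E Rel (c12 (inv12 c)) = (K.E Rel (c12 c))⁻¹
  rw [c12_inv c hc]
  exact h

/-- The check for a definition. -/
def chkDef (c : Nat) : Bool :=
  let r := rels.getD (defI c) []
  let l := r.dropLast
  decide (defI c < rels.length) && (r == l ++ [c]) && l.all (fun y => decide (rank y < rank c) && decide (y < 78)) &&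
    (exp c == invW inv12 (l.flatMap exp))

theorem hdef : ∀ c, c < 39 → 0 < rank c → chkDef c = true := by decide +kernel

theorem hbase : ∀ c, c < 78 → rank c = 0 → ∃ l, l < 12 ∧ exp c = [l] ∧ c12 l = c := by decide +kernel

theorem hneg : ∀ c, c < 39 → rank (c + 39) = rank c ∧ exp (c + 39) = invW inv12 (exp c) := by decide +kernel

theorem hexp_lt : ∀ c, c < 78 → ∀ z ∈ exp c, z < 12 := by decide +kernel

theorem hrels_lt : ∀ r ∈ rels, ∀ z ∈ r, z < 78 := by decide +kernel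

theorem hexp_inv : ∀ c, c < 78 → exp (invF c) = invW inv12 (exp c) := by decide +kernel

theorem hexp_c12 : ∀ c, c < 12 → exp (c12 c) = [c] := by decide +kernel

theorem rel_one : ∀ l ∈ rels, prodA (K.E Rel) l = 1 := rel_prodA_one valid hrels

theorem prodA_inv12 {G : Type*} [Group G] (F : Nat → G) (hF : ∀ c, c < 12 → F (inv12 c) = (F c)⁻¹)
    (l : List Nat) (hl : ∀ z ∈ l, z < 12) : prodA F (invW inv12 l) = (prodA F l)⁻¹ :=
  prodA_invW F inv12 l (fun z hz => hF z (hl z hz))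

theorem prodA_E_congr (l : List Nat) (h : ∀ y ∈ l, E y = prodA L (exp y)) :
    prodA (K.E Rel) l = prodA (fun c => prodA L (exp c)) l := by
  induction l with
  | nil => rfl
  | cons a m ih =>
    rw [prodA_cons, prodA_cons, ih (fun y hy => h y (by simp [hy]))]
    congr 1
    exact h a (by simp)

theorem pos_case (c : Nat) (hc : c < 39) (h0 : 0 < rank c)
    (ih : ∀ y, rank y < rank c → y < 78 → E y = prodA L (exp y)) : E c = prodA L (exp c) := by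
  have hd := hdef c hc h0
  simp only [chkDef, Bool.and_eq_true, decide_eq_true_eq, beq_iff_eq, List.all_eq_true] at hd
  obtain ⟨⟨⟨h1, h2⟩, h3⟩, h4⟩ := hd
  have hrmem : rels.getD (defI c) [] ∈ rels := by
    rw [List.getD_eq_getElem _ _ h1]
    exact List.getElem_mem h1
  have hone := rel_one _ hrmem
  rw [h2, prodA_append, prodA_cons, prodA_nil, one_mul] at hone
  have hprod := prodA_E_congr _ (fun y hy => ih y (h3 y hy).1 (h3 y hy).2)
  have hl12 : ∀ z ∈ ((rels.getD (defI c) []).dropLast).flatMap exp, z < 12 := by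
    intro z hz
    obtain ⟨y, hy, hzy⟩ := List.mem_flatMap.1 hz
    exact hexp_lt y (h3 y hy).2 z hzy
  rw [h4, prodA_inv12 L L_inv _ hl12, prodA_flatMap, ← hprod]
  exact eq_inv_of_mul_eq_one_left hone

theorem base_case (c : Nat) (hc : c < 78) (h0 : rank c = 0) : E c = prodA L (exp c) := by
  obtain ⟨l, _, h2, h3⟩ := hbase c hc h0
  rw [h2, prodA_cons, prodA_nil, one_mul, L, h3]

/-- Every column is a word in the letters. -/
theorem E_exp : ∀ c, c < 78 → E c = prodA L (exp c) := by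
  have key : ∀ n c, rank c = n → c < 78 → E c = prodA L (exp c) := by
    intro n
    induction n using Nat.strong_induction_on with
    | _ n ih =>
      intro c hr hc
      rcases Nat.eq_zero_or_pos n with h0 | h0
      · exact base_case c hc (by omega)
      · by_cases h39 : c < 39
        · exact pos_case c h39 (by omega) (fun y hy hy2 => ih _ (by omega) y rfl hy2)
        · obtain ⟨c', rfl⟩ : ∃ c', c = c' + 39 := ⟨c - 39, by omega⟩
          have hc' : c' < 39 := by omega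
          obtain ⟨h1, h2⟩ := hneg c' hc'
          have hinv : E (c' + 39) = (E c')⁻¹ := by
            have := (Cols.E_inv valid c' (by change c' < 78; omega)).2
            have h5 : K.inv c' = c' + 39 := by
              change cond (Nat.blt c' 39) (c' + 39) (c' - 39) = _
              have : Nat.blt c' 39 = true := by
                rw [Nat.blt_eq]; exact hc'
              rw [this]
              rfl
            rw [h5] at this
            exact this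
          have hrec : E c' = prodA L (exp c') :=
            pos_case c' hc' (by omega) (fun y hy hy2 => ih _ (by omega) y rfl hy2)
          rw [hinv, hrec, h2, prodA_inv12 L L_inv _ (hexp_lt c' (by omega))]
  exact fun c hc => key _ c rfl hc

theorem relsExp_eq : relsExp = (rels.map fun r => redW (r.flatMap exp)).filter (fun w => !w.isEmpty) := by
  decide +kernel

theorem flatMap_lt (r : List Nat) (hr : ∀ z ∈ r, z < 78) : ∀ z ∈ r.flatMap exp, z < 12 := by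
  intro z hz
  obtain ⟨y, hy, hzy⟩ := List.mem_flatMap.1 hz
  exact hexp_lt y (hr y hy) z hzy

theorem relsExp_one : ∀ w ∈ relsExp, prodA L w = 1 := by
  intro w hw
  rw [relsExp_eq, List.mem_filter, List.mem_map] at hw
  obtain ⟨⟨r, hr, rfl⟩, _⟩ := hw
  rw [prodA_redW L L_inv _ (flatMap_lt r (hrels_lt r hr)), prodA_flatMap]
  have h : ∀ m : List Nat, (∀ z ∈ m, z < 78) → prodA (fun c => prodA L (exp c)) m = prodA (K.E Rel) m := by
    intro m
    induction m with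
    | nil => simp
    | cons a m ih =>
      intro hm
      rw [prodA_cons, prodA_cons, ih (fun y hy => hm y (by simp [hy]))]
      congr 1
      exact (E_exp a (hm a (by simp))).symm
  rw [h r (hrels_lt r hr)]
  exact rel_one r hr

/-- A homomorphism from the values at the letters. -/
theorem exists_hom12 {G : Type*} [Group G] (F : Nat → G) (hinv : ∀ c, c < 12 → F (inv12 c) = (F c)⁻¹)
    (hrel : ∀ w ∈ relsExp, prodA F w = 1) : ∃ ψ : Γ →* G, ∀ c, c < 12 → ψ (L c) = F c := by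
  obtain ⟨ψ, hψ⟩ := exists_hom_of_letters (K := K) (R := Rel) (rels := rels) valid hR
    (fun c => prodA F (exp c))
    (by
      intro c hc
      change prodA F (exp (invF c)) = _
      rw [hexp_inv c hc, prodA_inv12 F hinv _ (hexp_lt c hc)])
    (by
      intro l hl
      rw [← prodA_flatMap, ← prodA_redW F hinv _ (flatMap_lt l (hrels_lt l hl))]
      by_cases he : (redW (l.flatMap exp)).isEmpty = true
      · rw [List.isEmpty_iff.1 he]
        rfl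
      · apply hrel
        rw [relsExp_eq, List.mem_filter, List.mem_map]
        exact ⟨⟨l, hl, rfl⟩, by simpa using he⟩)
  refine ⟨ψ, fun c hc => ?_⟩
  change ψ (K.E Rel (c12 c)) = F c
  rw [hψ _ (c12_lt c hc), hexp_c12 c hc, prodA_cons, prodA_nil, one_mul]

/-- The letters generate the group. -/
theorem closure_L : Subgroup.closure (L '' {c | c < 12}) = ⊤ := by
  have h := Cols.closure_E (K := K) (R := Rel) valid
  rw [eq_top_iff, ← h, Subgroup.closure_le]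
  rintro _ ⟨c, hc, rfl⟩
  change E c ∈ _
  rw [E_exp c hc]
  have hl := hexp_lt c hc
  generalize exp c = m at hl
  induction m with
  | nil => exact Subgroup.one_mem _
  | cons a m ih =>
    rw [prodA_cons]
    refine Subgroup.mul_mem _ (ih fun y hy => hl y (by simp [hy])) ?_
    exact Subgroup.subset_closure ⟨a, hl a (by simp), rfl⟩

end Cfsg.Agent.Lib.DCE.Ly.Exp
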