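import Cfsg.Agent.Lib.DCE.Ly.Rules

/-! Generators of the subgroups of the nodes in the Lyons group. -/

namespace Cfsg.Agent.Lib.DCE.Ly.Gens

open Cfsg.Agent.Lib.TC.Core Cfsg.Agent.Lib.TC.Pres Cfsg.Agent.Lib.DCE.Ly.Exp Cfsg.Agent.Lib.DCE.Ly.Setup
  Cfsg.Agent.Lib.DCE Cfsg.Agent.Lib.DCE.Ly.Rules

set_option maxRecDepth 100000

/-- The generators of the subgroups of the nodes. -/
def gensT : List (List (List Nat)) :=
  [[[0],
   [1],
   [2],
   [3],
   [4],
   [5],
   [6],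
   [7],
   [8],
   [9]],[[2],
   [0,2,5],
   [1,2,6],
   [6,2,1],
   [0,2,5,2,0,7,5,7],
   [0],
   [6,0,1],
   [6,6,0,1,1],
   [7],
   [0,7,5],
   [1,7,6],
   [6,7,1],
   [2,0,2,5,7,0,7,5],
   [5],
   [6,5,1],
   [6,6,5,1,1]],[[0,0,6,0,6,6,0,6,7,6,5,1,8,7,6,5,1,8,7,5,5,5],
   [5,5,5],
   [0,0,0,2,3,6,0,1,2,3,6,0,1,2,1,5,1,1,5,1,5,5],
   [0,0,0]],[[8,6,2,5,2,0,2,3,7,7,5,1,7,1,2,5,6,6,0],
   [5,5,5,5,5,5],
   [1,2,1,5,2,0,6,0,6,7,7,1,5,6],
   [5,1,1,0,7,6,2,6,0,2,2,8,7,5,7,0,7,1,3],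
   [0,0,0,0,0,0],
   [1,0,6,2,2,1,5,1,5,7,0,6,7,6]],[[1,2,5,1,1,7,3,7,5,2,0,7,1,1,5,6,5,1,1],
   [5,5,5],
   [5,5,6,5,1],
   [6,6,0,1,0,6,6,2,5,7,0,2,8,2,6,6,0,7,6],
   [0,0,0],
   [6,0,1,0,0]]]

/-- The words of the elements of `K` which are conjugates by `z²` of the generators of `K`. -/
def k1T : List (List Nat) :=
  [[0,0],
   [1,1],
   [2,2],
   [3,3],
   [12],
   [5],
   [6],
   [7],
   [8,8],
   [9,9],
   [10,10],
   [11,11],
   [4],
   [13],
   [14],
   [15]]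

theorem hg0 : ∀ i, i < (gensT.getD 0 []).length → ev ((gensT.getD 0 []).getD i []) ∈ S 0 := by
  intro i hi
  apply S0_all
  have h : ∀ i, i < (gensT.getD 0 []).length → lt10 ((gensT.getD 0 []).getD i []) = true := by decide +kernel
  exact h i hi

/-- The check for the generators of `K`. -/
noncomputable def chk1 (i : Nat) : Bool :=
  andB (ltB 16 (k1T.getD i [])) (andB (lt10 ((gensT.getD 1 []).getD i [])) (andB (lt10 (sL (k1T.getD i [])))
    (wEq (invW invQ w_u ++ ((gensT.getD 1 []).getD i [] ++ w_u)) (kL (k1T.getD i [])))))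

theorem hchk1 : ∀ i, i < (gensT.getD 1 []).length → chk1 i = true := by decide +kernel

theorem hg1 : ∀ i, i < (gensT.getD 1 []).length → ev ((gensT.getD 1 []).getD i []) ∈ S 1 := by
  intro i hi
  have h := hchk1 i hi
  rw [chk1, andB_eq_true, andB_eq_true, andB_eq_true] at h
  exact mem_S1 _ _ h.1 h.2.1 h.2.2.1 h.2.2.2

theorem kw_eq : ∀ i, i < 16 → kwT.getD i [] = (gensT.getD 1 []).getD i [] := by decide +kernel

theorem ev_kL_mem (κ : List Nat) (hκ : ltB 16 κ = true) : ev (kL κ) ∈ S 1 := by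
  have h := ltB_spec hκ
  induction κ with
  | nil => exact Subgroup.one_mem _
  | cons i κ ih =>
    have h1 : kL (i :: κ) = kwT.getD i [] ++ kL κ := by simp [kL]
    have hi := h i (by simp)
    have hκ' : ltB 16 κ = true := by
      simp only [ltB, List.all_cons, Bool.and_eq_true] at hκ
      exact hκ.2
    rw [h1, ev_append]
    refine Subgroup.mul_mem _ (ih hκ' (fun y hy => h y (by simp [hy]))) ?_
    rw [kw_eq i hi]
    apply hg1
    have hlen : (gensT.getD 1 []).length = 16 := by decide +kernel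
    rw [hlen]
    exact hi

theorem g2_0 : ev [0,0,6,0,6,6,0,6,7,6,5,1,8,7,6,5,1,8,7,5,5,5] ∈ S 2 := extraD _ (by decide +kernel)

theorem g2_1 : ev [5,5,5] ∈ S 2 := by
  rw [ev_eq (show wEq [5,5,5] (sL [5]) = true by decide +kernel)]
  exact mem_S_of_stab rowD [5] [5,5,5] (by decide +kernel) (ev_kL_mem _ (by decide +kernel)) (by decide +kernel)

theorem hg2pos : ∀ i, i < 2 → ev ((gensT.getD 2 []).getD i []) ∈ S 2 := by
  intro i hi
  interval_cases i
  · exact g2_0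
  · exact g2_1

theorem hg2neg : ∀ i, i < 2 → (gensT.getD 2 []).getD (i + 2) [] = invW invQ ((gensT.getD 2 []).getD i []) := by decide +kernel

theorem hg2lt : ∀ i, i < 2 → lt10 ((gensT.getD 2 []).getD i []) = true := by decide +kernel

theorem hg2 : ∀ i, i < (gensT.getD 2 []).length → ev ((gensT.getD 2 []).getD i []) ∈ S 2 := by
  intro i hi
  have hlen : (gensT.getD 2 []).length = 4 := by decide +kernel
  rw [hlen] at hi
  by_cases h : i < 2
  · exact hg2pos i h
  · obtain ⟨m, rfl⟩ : ∃ m, i = m + 2 := ⟨i - 2, by omega⟩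
    rw [hg2neg m (by omega), ev_invW _ (hg2lt m (by omega))]
    exact Subgroup.inv_mem _ (hg2pos m (by omega))

theorem g3_0 : ev [8,6,2,5,2,0,2,3,7,7,5,1,7,1,2,5,6,6,0] ∈ S 3 := extraE (kL []) (ev_kL_mem _ (by decide +kernel)) (by decide +kernel)

theorem g3_1 : ev [5,5,5,5,5,5] ∈ S 3 := by
  rw [ev_eq (show wEq [5,5,5,5,5,5] (sL [5,5]) = true by decide +kernel)]
  exact mem_S_of_stab rowE [5,5] [0,6,7,13] (by decide +kernel) (ev_kL_mem _ (by decide +kernel)) (by decide +kernel)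

theorem g3_2 : ev [1,2,1,5,2,0,6,0,6,7,7,1,5,6] ∈ S 3 := by
  rw [ev_eq (show wEq [1,2,1,5,2,0,6,0,6,7,7,1,5,6] (sL [1,11,11]) = true by decide +kernel)]
  exact mem_S_of_stab rowE [1,11,11] [0,2,3,3,2] (by decide +kernel) (ev_kL_mem _ (by decide +kernel)) (by decide +kernel)

theorem hg3pos : ∀ i, i < 3 → ev ((gensT.getD 3 []).getD i []) ∈ S 3 := by
  intro i hi
  interval_cases i
  · exact g3_0
  · exact g3_1
  · exact g3_2

theorem hg3neg : ∀ i, i < 3 → (gensT.getD 3 []).getD (i + 3) [] = invW invQ ((gensT.getD 3 []).getD i []) := by decide +kernel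

theorem hg3lt : ∀ i, i < 3 → lt10 ((gensT.getD 3 []).getD i []) = true := by decide +kernel

theorem hg3 : ∀ i, i < (gensT.getD 3 []).length → ev ((gensT.getD 3 []).getD i []) ∈ S 3 := by
  intro i hi
  have hlen : (gensT.getD 3 []).length = 6 := by decide +kernel
  rw [hlen] at hi
  by_cases h : i < 3
  · exact hg3pos i h
  · obtain ⟨m, rfl⟩ : ∃ m, i = m + 3 := ⟨i - 3, by omega⟩
    rw [hg3neg m (by omega), ev_invW _ (hg3lt m (by omega))]
    exact Subgroup.inv_mem _ (hg3pos m (by omega))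

theorem g4_0 : ev [1,2,5,1,1,7,3,7,5,2,0,7,1,1,5,6,5,1,1] ∈ S 4 := extraF (kL []) (ev_kL_mem _ (by decide +kernel)) (by decide +kernel)

theorem g4_1 : ev [5,5,5] ∈ S 4 := by
  rw [ev_eq (show wEq [5,5,5] (sL [5]) = true by decide +kernel)]
  exact mem_S_of_stab rowF [5] [5,5,6] (by decide +kernel) (ev_kL_mem _ (by decide +kernel)) (by decide +kernel)

theorem g4_2 : ev [5,5,6,5,1] ∈ S 4 := by
  rw [ev_eq (show wEq [5,5,6,5,1] (sL [6]) = true by decide +kernel)]
  exact mem_S_of_stab rowF [6] [5,5,7] (by decide +kernel) (ev_kL_mem _ (by decide +kernel)) (by decide +kernel)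

theorem hg4pos : ∀ i, i < 3 → ev ((gensT.getD 4 []).getD i []) ∈ S 4 := by
  intro i hi
  interval_cases i
  · exact g4_0
  · exact g4_1
  · exact g4_2

theorem hg4neg : ∀ i, i < 3 → (gensT.getD 4 []).getD (i + 3) [] = invW invQ ((gensT.getD 4 []).getD i []) := by decide +kernel

theorem hg4lt : ∀ i, i < 3 → lt10 ((gensT.getD 4 []).getD i []) = true := by decide +kernel

theorem hg4 : ∀ i, i < (gensT.getD 4 []).length → ev ((gensT.getD 4 []).getD i []) ∈ S 4 := by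
  intro i hi
  have hlen : (gensT.getD 4 []).length = 6 := by decide +kernel
  rw [hlen] at hi
  by_cases h : i < 3
  · exact hg4pos i h
  · obtain ⟨m, rfl⟩ : ∃ m, i = m + 3 := ⟨i - 3, by omega⟩
    rw [hg4neg m (by omega), ev_invW _ (hg4lt m (by omega))]
    exact Subgroup.inv_mem _ (hg4pos m (by omega))


/-- All the generators. -/
theorem hgens : ∀ k, k < 5 → ∀ i, i < (gensT.getD k []).length → ev ((gensT.getD k []).getD i []) ∈ S k := by
  intro k hk
  interval_cases k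
  · exact hg0
  · exact hg1
  · exact hg2
  · exact hg3
  · exact hg4

end Cfsg.Agent.Lib.DCE.Ly.Gens
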