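import Cfsg.Agent.Lib.DCE.Ly.Steps

/-! The table of the double cosets of `G₂(5)` in the Lyons group. -/

namespace Cfsg.Agent.Lib.DCE.Ly.Rows

open Cfsg.Agent.Lib.TC.Core Cfsg.Agent.Lib.TC.Pres Cfsg.Agent.Lib.DCE.Ly.Exp Cfsg.Agent.Lib.DCE.Ly.Setup
  Cfsg.Agent.Lib.DCE Cfsg.Agent.Lib.DCE.Ly.Rules Cfsg.Agent.Lib.DCE.Ly.Gens Cfsg.Agent.Lib.DCE.Ly.Steps

set_option maxRecDepth 100000

theorem r0 : F 0 [] 1 [] :=
  row0

theorem r1 : F 1 [] 0 [] :=
  F.normR (F.rev r0) (by decide) [] [0,0] (by decide +kernel) (by decide +kernel)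

theorem r2 : F 1 [8] 2 [] :=
  by
  rw [show [8] = dD from by decide +kernel]
  exact rowD

theorem r3 : F 2 [] 1 [3] :=
  F.normR (F.rev r2) (by decide) [3] [5,5] (by decide +kernel) (by decide +kernel)

theorem r4 : F 1 [2,1,2,3,6,6,2,3,1,2,1,1,2,6,5,6,6,5,6,0,1] 3 [] :=
  by
  rw [show [2,1,2,3,6,6,2,3,1,2,1,1,2,6,5,6,6,5,6,0,1] = dE from by decide +kernel]
  exact rowE

theorem r5 : F 3 [] 1 [0,6,3,0,2,4] :=
  F.normR (F.rev r4) (by decide) [0,6,3,0,2,4] [14,11,5,15,1,14] (by decide +kernel) (by decide +kernel)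

theorem r6 : F 1 [3,1] 4 [] :=
  by
  rw [show [3,1] = dF from by decide +kernel]
  exact rowF

theorem r7 : F 4 [] 1 [3,1] :=
  F.normR (F.rev r6) (by decide) [3,1] [13,13] (by decide +kernel) (by decide +kernel)

theorem r8 : F 1 [1] 1 [1] :=
  ded_mid tok82 (by decide +kernel) (by decide +kernel)
    (Pt.mulH (Pt.norm (Pt.z (Pt.mulH (Pt.init 0 []) (by decide) w_a4 [] [1,1,0,6,6] (by decide +kernel) (by decide +kernel)) (by decide) r0 [] [] (by decide +kernel) (by decide +kernel) (by decide +kernel)) (by decide) [] [] (by decide +kernel) (by decide +kernel)) (by decide) w_a4 [1] [13,14,15] (by decide +kernel) (by decide +kernel))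
    (Pt.mulH (Pt.zi_of (Pt.mulH (Pt.norm (Pt.z (Pt.mulH (Pt.init 0 []) (by decide) (invW invQ w_u) [] [5,5] (by decide +kernel) (by decide +kernel)) (by decide) r0 [] [] (by decide +kernel) (by decide +kernel) (by decide +kernel)) (by decide) [] [] (by decide +kernel) (by decide +kernel)) (by decide) (invW invQ w_u) [] [13,13] (by decide +kernel) (by decide +kernel))) (by decide) (invW invQ w_a4) [1] [5,6,7] (by decide +kernel) (by decide +kernel))

theorem r9 : F 4 [3] 2 [1] :=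
  ded_mid tok82 (by decide +kernel) (by decide +kernel)
    (Pt.mulH (Pt.norm (Pt.z (Pt.mulH (Pt.init 1 [3]) (by decide) w_a4 [3,1] [5,14,15] (by decide +kernel) (by decide +kernel)) (by decide) r6 [] [] (by decide +kernel) (by decide +kernel) (by decide +kernel)) (by decide) [] [] (by decide +kernel) (by decide +kernel)) (by decide) w_a4 [3] [0,0] (by decide +kernel) (by decide +kernel))
    (Pt.mulH (Pt.zi_of (Pt.mulH (Pt.norm (Pt.z (Pt.mulH (Pt.init 1 [3]) (by decide) (invW invQ w_u) [3] [5,5] (by decide +kernel) (by decide +kernel)) (by decide) r2 [] [5,5,5,5] (by decide +kernel) (by decide +kernel) (by decide +kernel)) (by decide) [] [] (by decide +kernel) (by decide +kernel)) (by decide) (invW invQ w_u) [] [3,3] (by decide +kernel) (by decide +kernel))) (by decide) (invW invQ w_a4) [1] [0,3,3,2] (by decide +kernel) (by decide +kernel))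

theorem r10 : F 2 [1] 4 [3] :=
  F.normR (F.rev r9) (by decide) [3] [4,4] (by decide +kernel) (by decide +kernel)

theorem r11 : F 3 [7,5,2,3,0,1] 3 [1,5,6,7,1,2] :=
  ded_mid tok82 (by decide +kernel) (by decide +kernel)
    (Pt.mulH (Pt.norm (Pt.z (Pt.mulH (Pt.init 1 [4,3]) (by decide) w_a4 [1,2,2,3,2,3] [6,0,5,15,0,6] (by decide +kernel) (by decide +kernel)) (by decide) r4 [15,14,2,7,9] [2,5,6,15,14,13,0] (by decide +kernel) (by decide +kernel) (by decide +kernel)) (by decide) [5,6,2,5,7,1,0] [0,0,0,0,4,2] (by decide +kernel) (by decide +kernel)) (by decide) w_a4 [7,5,2,3,0,1] [3,1,1,0,1] (by decide +kernel) (by decide +kernel))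
    (Pt.mulH (Pt.zi_of (Pt.mulH (Pt.norm (Pt.z (Pt.mulH (Pt.init 1 [4,3]) (by decide) (invW invQ w_u) [5,5,4,3] [] (by decide +kernel) (by decide +kernel)) (by decide) r4 [5,7,13,8,2,14] [5,6,4,5,7,14,13,10] (by decide +kernel) (by decide +kernel) (by decide +kernel)) (by decide) [7,6,7,5,1,2,3] [2,0,5,0,1] (by decide +kernel) (by decide +kernel)) (by decide) (invW invQ w_u) [6,5,1,4,1,4,3] [0,1,0,5,4,3] (by decide +kernel) (by decide +kernel))) (by decide) (invW invQ w_a4) [1,5,6,7,1,2] [0,1,3,4,0] (by decide +kernel) (by decide +kernel))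

theorem r12 : F 4 [1,0,6,3] 4 [1,0,6,3] :=
  ded_mid tok82 (by decide +kernel) (by decide +kernel)
    (Pt.mulH (Pt.norm (Pt.z (Pt.mulH (Pt.init 1 [6,3]) (by decide) w_a4 [6,3] [5,5,7] (by decide +kernel) (by decide +kernel)) (by decide) r6 [5,6,7] [5,14,15] (by decide +kernel) (by decide +kernel) (by decide +kernel)) (by decide) [6,3] [0,0,1,1] (by decide +kernel) (by decide +kernel)) (by decide) w_a4 [1,0,6,3] [1,1,1,2] (by decide +kernel) (by decide +kernel))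
    (Pt.mulH (Pt.zi_of (Pt.mulH (Pt.norm (Pt.z (Pt.mulH (Pt.init 1 [6,3]) (by decide) (invW invQ w_u) [6,3] [5,5] (by decide +kernel) (by decide +kernel)) (by decide) r6 [5,6,7] [5,14,15] (by decide +kernel) (by decide +kernel) (by decide +kernel)) (by decide) [6,3] [0,0,1,1] (by decide +kernel) (by decide +kernel)) (by decide) (invW invQ w_u) [6,3] [1,1] (by decide +kernel) (by decide +kernel))) (by decide) (invW invQ w_a4) [1,0,6,3] [4,5] (by decide +kernel) (by decide +kernel))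

theorem r13 : F 1 [2,4] 1 [6,0,2,4] :=
  ded_mid tok83' (by decide +kernel) (by decide +kernel)
    (Pt.mulH (Pt.norm (Pt.z (Pt.mulH (Pt.init 0 []) (by decide) w_x47 [] [8,7,1,5,7,5,8,7] (by decide +kernel) (by decide +kernel)) (by decide) r0 [] [] (by decide +kernel) (by decide +kernel) (by decide +kernel)) (by decide) [] [] (by decide +kernel) (by decide +kernel)) (by decide) w_x364 [2,4] [10,5,7,1,14] (by decide +kernel) (by decide +kernel))
    (Pt.mulH (Pt.zi_of (Pt.mulH (Pt.norm (Pt.z (Pt.mulH (Pt.init 0 []) (by decide) (invW invQ []) [] [] (by decide +kernel) (by decide +kernel)) (by decide) r0 [] [] (by decide +kernel) (by decide +kernel) (by decide +kernel)) (by decide) [] [] (by decide +kernel) (by decide +kernel)) (by decide) (invW invQ w_u) [] [13,13] (by decide +kernel) (by decide +kernel))) (by decide) (invW invQ w_x368) [6,0,2,4] [9,14,3,7,8] (by decide +kernel) (by decide +kernel))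

theorem r14 : F 3 [2,4,6,0,2,1] 2 [1,2,3,5,2,3,1] :=
  ded_mid tok83' (by decide +kernel) (by decide +kernel)
    (Pt.mulH (Pt.norm (Pt.z (Pt.mulH (Pt.init 1 [3]) (by decide) w_x47 [7,7,4,2,6,3] [0,11,12,7] (by decide +kernel) (by decide +kernel)) (by decide) r4 [6,9,0,5,15,14] [3,5,7,6,11] (by decide +kernel) (by decide +kernel) (by decide +kernel)) (by decide) [0,4,1,4,0] [0,0,0,0,5,5] (by decide +kernel) (by decide +kernel)) (by decide) w_x364 [2,4,6,0,2,1] [0,0,0,0,1,5,1] (by decide +kernel) (by decide +kernel))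
    (Pt.mulH (Pt.zi_of (Pt.mulH (Pt.norm (Pt.z (Pt.mulH (Pt.init 1 [3]) (by decide) (invW invQ []) [3] [] (by decide +kernel) (by decide +kernel)) (by decide) r2 [] [5,5,5,5] (by decide +kernel) (by decide +kernel) (by decide +kernel)) (by decide) [] [] (by decide +kernel) (by decide +kernel)) (by decide) (invW invQ w_u) [] [3,3] (by decide +kernel) (by decide +kernel))) (by decide) (invW invQ w_x368) [1,2,3,5,2,3,1] [2,3,2,1,1,1,1] (by decide +kernel) (by decide +kernel))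

theorem r15 : F 2 [1,2,3,5,2,3,1] 3 [2,2,6,7,6,4] :=
  F.normR (F.rev r14) (by decide) [2,2,6,7,6,4] [0,0,0,0,1,2] (by decide +kernel) (by decide +kernel)

theorem r16 : F 3 [5,5,7,1,4,6,7] 4 [7,4,3,0,1,2,1,1,2] :=
  ded_mid tok83' (by decide +kernel) (by decide +kernel)
    (Pt.mulH (Pt.norm (Pt.z (Pt.mulH (Pt.init 1 [3,1]) (by decide) w_x47 [7,7,4,2,3,1] [2,13,14,11,15,2] (by decide +kernel) (by decide +kernel)) (by decide) r4 [4,6,7,2,5,6] [8,7,13,0,14] (by decide +kernel) (by decide +kernel) (by decide +kernel)) (by decide) [2,4,1,4,2] [0,0,0,0,1,2] (by decide +kernel) (by decide +kernel)) (by decide) w_x364 [5,5,7,1,4,6,7] [1,1,5] (by decide +kernel) (by decide +kernel))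
    (Pt.mulH (Pt.zi_of (Pt.mulH (Pt.norm (Pt.z (Pt.mulH (Pt.init 1 [3,1]) (by decide) (invW invQ []) [3,1] [] (by decide +kernel) (by decide +kernel)) (by decide) r6 [] [] (by decide +kernel) (by decide +kernel) (by decide +kernel)) (by decide) [] [] (by decide +kernel) (by decide +kernel)) (by decide) (invW invQ w_u) [] [4,4] (by decide +kernel) (by decide +kernel))) (by decide) (invW invQ w_x368) [7,4,3,0,1,2,1,1,2] [0,4,0,1] (by decide +kernel) (by decide +kernel))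

theorem r17 : F 4 [7,4,3,0,1,2,1,1,2] 3 [7,1,4,6,7] :=
  F.normR (F.rev r16) (by decide) [7,1,4,6,7] [] (by decide +kernel) (by decide +kernel)

theorem r18 : F 4 [4,0,1,0,1,7,5,2] 2 [6,0,1,2,6,4,0,2] :=
  ded_mid tok83' (by decide +kernel) (by decide +kernel)
    (Pt.mulH (Pt.norm (Pt.z (Pt.mulH (Pt.init 1 [2,3]) (by decide) w_x47 [3,1] [3,5,5,9] (by decide +kernel) (by decide +kernel)) (by decide) r6 [] [] (by decide +kernel) (by decide +kernel) (by decide +kernel)) (by decide) [] [] (by decide +kernel) (by decide +kernel)) (by decide) w_x364 [4,0,1,0,1,7,5,2] [1,1,2,1] (by decide +kernel) (by decide +kernel))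
    (Pt.mulH (Pt.zi_of (Pt.mulH (Pt.norm (Pt.z (Pt.mulH (Pt.init 1 [2,3]) (by decide) (invW invQ []) [2,3] [] (by decide +kernel) (by decide +kernel)) (by decide) r2 [0] [5,5,5,5] (by decide +kernel) (by decide +kernel) (by decide +kernel)) (by decide) [4,1,1,7,8,2,2] [3,0,3,2,1,1,2,3] (by decide +kernel) (by decide +kernel)) (by decide) (invW invQ w_u) [2,4,1,7,6,3,2] [1,2,3,2,1,1,1,1,0] (by decide +kernel) (by decide +kernel))) (by decide) (invW invQ w_x368) [6,0,1,2,6,4,0,2] [0,3,3,2,1,2,3,3,3,2,3] (by decide +kernel) (by decide +kernel))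

theorem r19 : F 2 [6,0,1,2,6,4,0,2] 4 [4,1,2,2,0,7,1] :=
  F.normR (F.rev r18) (by decide) [4,1,2,2,0,7,1] [1,2,1] (by decide +kernel) (by decide +kernel)

theorem r20 : F 2 [4,7,0,4,8,2] 2 [6,4,0,1,2,1] :=
  ded_mid tok83' (by decide +kernel) (by decide +kernel)
    (Pt.mulH (Pt.norm (Pt.z (Pt.mulH (Pt.init 1 [7,3]) (by decide) w_x47 [8,1,4,6,7,3] [0,14,13,3,13,0] (by decide +kernel) (by decide +kernel)) (by decide) r2 [14,9,6,0] [3,7,0,6,5,1] (by decide +kernel) (by decide +kernel) (by decide +kernel)) (by decide) [5,7,6,5,1,0,2] [0,1,2,1,1,1,1,0,3,0] (by decide +kernel) (by decide +kernel)) (by decide) w_x364 [4,7,0,4,8,2] [0,3,0,3,2,3,3,3,0] (by decide +kernel) (by decide +kernel))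
    (Pt.mulH (Pt.zi_of (Pt.mulH (Pt.norm (Pt.z (Pt.mulH (Pt.init 1 [7,3]) (by decide) (invW invQ []) [7,3] [] (by decide +kernel) (by decide +kernel)) (by decide) r2 [8] [5,5,5,5] (by decide +kernel) (by decide +kernel) (by decide +kernel)) (by decide) [4,6,7,0,4,2,1] [0,1,2,1,2,1,0] (by decide +kernel) (by decide +kernel)) (by decide) (invW invQ w_u) [6,7,4,5,2,1,4] [0,1,0,3,0,3,3,3,0] (by decide +kernel) (by decide +kernel))) (by decide) (invW invQ w_x368) [6,4,0,1,2,1] [3,0,1,0,3,3,0,1,0,3] (by decide +kernel) (by decide +kernel))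

theorem r21 : F 4 [4,2,6,6,5,1,1,2,1] 4 [0,2,8,4,5,1,2,1] :=
  ded_mid tok83' (by decide +kernel) (by decide +kernel)
    (Pt.mulH (Pt.norm (Pt.z (Pt.mulH (Pt.init 1 [2,3,1]) (by decide) w_x47 [3,1,1] [6,9,9,11,6] (by decide +kernel) (by decide +kernel)) (by decide) r6 [7] [7,6,13] (by decide +kernel) (by decide +kernel) (by decide +kernel)) (by decide) [1,1,0,6] [1,5] (by decide +kernel) (by decide +kernel)) (by decide) w_x364 [4,2,6,6,5,1,1,2,1] [4] (by decide +kernel) (by decide +kernel))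
    (Pt.mulH (Pt.zi_of (Pt.mulH (Pt.norm (Pt.z (Pt.mulH (Pt.init 1 [2,3,1]) (by decide) (invW invQ []) [2,3,1] [] (by decide +kernel) (by decide +kernel)) (by decide) r6 [0] [] (by decide +kernel) (by decide +kernel) (by decide +kernel)) (by decide) [2,5,7,5,6,0,2,1] [4,4,5] (by decide +kernel) (by decide +kernel)) (by decide) (invW invQ w_u) [4,7,4,6,4,2,4,1] [2] (by decide +kernel) (by decide +kernel))) (by decide) (invW invQ w_x368) [0,2,8,4,5,1,2,1] [1,1,0,2] (by decide +kernel) (by decide +kernel))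

theorem r22 : F 4 [6,4,6,6,0,1,2,1,1] 4 [8,4,2,2,3,4,7,0,2] :=
  ded_mid tok83' (by decide +kernel) (by decide +kernel)
    (Pt.mulH (Pt.norm (Pt.z (Pt.mulH (Pt.init 1 [7,3,1]) (by decide) w_x47 [1,5,7,0,7,3,1] [1,5,15,3,3,2] (by decide +kernel) (by decide +kernel)) (by decide) r6 [8,10,15,2] [7,14,13] (by decide +kernel) (by decide +kernel) (by decide +kernel)) (by decide) [2,6,2,6,0,7,1,1] [1,1] (by decide +kernel) (by decide +kernel)) (by decide) w_x364 [6,4,6,6,0,1,2,1,1] [2] (by decide +kernel) (by decide +kernel))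
    (Pt.mulH (Pt.zi_of (Pt.mulH (Pt.norm (Pt.z (Pt.mulH (Pt.init 1 [7,3,1]) (by decide) (invW invQ []) [7,3,1] [] (by decide +kernel) (by decide +kernel)) (by decide) r6 [8] [] (by decide +kernel) (by decide +kernel) (by decide +kernel)) (by decide) [6,0,1,2,0,6,2,1] [4,5] (by decide +kernel) (by decide +kernel)) (by decide) (invW invQ w_u) [6,5,1,2,0,6,2,1] [] (by decide +kernel) (by decide +kernel))) (by decide) (invW invQ w_x368) [8,4,2,2,3,4,7,0,2] [1,1,0,4,0,2,0] (by decide +kernel) (by decide +kernel))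

theorem r23 : F 4 [0,4,0,6,4,6,5,2,1] 4 [3,4,6,6,0,3,4,1] :=
  ded_mid tok83' (by decide +kernel) (by decide +kernel)
    (Pt.mulH (Pt.norm (Pt.z (Pt.mulH (Pt.init 1 [1,2,3]) (by decide) w_x47 [2,8,6,2,0,1,2,3] [11,14,12,15,14] (by decide +kernel) (by decide +kernel)) (by decide) r6 [0,5,3,8,6,15] [6,11,2,7,6,5] (by decide +kernel) (by decide +kernel) (by decide +kernel)) (by decide) [7,6,7,3,4,8,0,4] [1,1,1,0,5,3,1] (by decide +kernel) (by decide +kernel)) (by decide) w_x364 [0,4,0,6,4,6,5,2,1] [1,0,4,4,5,0] (by decide +kernel) (by decide +kernel))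
    (Pt.mulH (Pt.zi_of (Pt.mulH (Pt.norm (Pt.z (Pt.mulH (Pt.init 1 [1,2,3]) (by decide) (invW invQ []) [1,2,3] [] (by decide +kernel) (by decide +kernel)) (by decide) r6 [2] [] (by decide +kernel) (by decide +kernel) (by decide +kernel)) (by decide) [0,2,0,6,7,1] [4,4] (by decide +kernel) (by decide +kernel)) (by decide) (invW invQ w_u) [6,7,1,5,2] [4,4,4] (by decide +kernel) (by decide +kernel))) (by decide) (invW invQ w_x368) [3,4,6,6,0,3,4,1] [1,1,2,0,4] (by decide +kernel) (by decide +kernel))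

theorem r24 : F 4 [3,4,6,6,0,3,4,1] 4 [1,1,4,5,4,1,4,3,1] :=
  F.normR (F.rev r23) (by decide) [1,1,4,5,4,1,4,3,1] [1,0,4,0,1,3,1] (by decide +kernel) (by decide +kernel)

theorem r25 : F 4 [7,7,1,4,2,1] 3 [6,0,2,6,4,5,2,3] :=
  ded_mid tok83' (by decide +kernel) (by decide +kernel)
    (Pt.mulH (Pt.norm (Pt.z (Pt.mulH (Pt.init 1 [6,4,3]) (by decide) w_x47 [7,7,5,2,6,3] [0,7,2,5] (by decide +kernel) (by decide +kernel)) (by decide) r6 [6,9,0,15,11] [13,14,15] (by decide +kernel) (by decide +kernel) (by decide +kernel)) (by decide) [0,7,1,0,4,7,4] [1,1] (by decide +kernel) (by decide +kernel)) (by decide) w_x364 [7,7,1,4,2,1] [1,1,1] (by decide +kernel) (by decide +kernel))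
    (Pt.mulH (Pt.zi_of (Pt.mulH (Pt.norm (Pt.z (Pt.mulH (Pt.init 1 [6,4,3]) (by decide) (invW invQ []) [6,4,3] [] (by decide +kernel) (by decide +kernel)) (by decide) r4 [1,14,10,15,3,6] [4,10,5,6,5,15,14,13] (by decide +kernel) (by decide +kernel) (by decide +kernel)) (by decide) [4,6,6,4,3] [2,0,5,0,5] (by decide +kernel) (by decide +kernel)) (by decide) (invW invQ w_u) [7,4,1,4,2,3] [1] (by decide +kernel) (by decide +kernel))) (by decide) (invW invQ w_x368) [6,0,2,6,4,5,2,3] [4,0,5,3,5] (by decide +kernel) (by decide +kernel))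

theorem r26 : F 3 [6,0,2,6,4,5,2,3] 4 [7,1,0,0,4,2,1] :=
  F.normR (F.rev r25) (by decide) [7,1,0,0,4,2,1] [] (by decide +kernel) (by decide +kernel)

theorem r27 : F 2 [2,6,4,2,2] 3 [6,7,6,7,5,4,3,0] :=
  ded_mid tok83' (by decide +kernel) (by decide +kernel)
    (Pt.mulH (Pt.norm (Pt.z (Pt.mulH (Pt.init 1 [3,5,4]) (by decide) w_x47 [2,4,6,0,6,2,3,1] [4,7,6,10,5,14,15] (by decide +kernel) (by decide +kernel)) (by decide) r2 [6,9,0] [0,6,2,8,12,13] (by decide +kernel) (by decide +kernel) (by decide +kernel)) (by decide) [5,2,6,2,1,2,2] [1,0,3,3,2,1,0,1,1,2] (by decide +kernel) (by decide +kernel)) (by decide) w_x364 [2,6,4,2,2] [3,0,1,1,2] (by decide +kernel) (by decide +kernel))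
    (Pt.mulH (Pt.zi_of (Pt.mulH (Pt.norm (Pt.z (Pt.mulH (Pt.init 1 [3,5,4]) (by decide) (invW invQ []) [3,5,4] [] (by decide +kernel) (by decide +kernel)) (by decide) r4 [1,2,15,14,11,15] [7,3,5,7,14] (by decide +kernel) (by decide +kernel) (by decide +kernel)) (by decide) [6,7,7,3,1] [1,2,0,5,0] (by decide +kernel) (by decide +kernel)) (by decide) (invW invQ w_u) [6,2,3,1] [1] (by decide +kernel) (by decide +kernel))) (by decide) (invW invQ w_x368) [6,7,6,7,5,4,3,0] [0,0,5,1,3,3] (by decide +kernel) (by decide +kernel))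

theorem r28 : F 3 [6,7,6,7,5,4,3,0] 2 [4,7,4,3,1,1] :=
  F.normR (F.rev r27) (by decide) [4,7,4,3,1,1] [1,1,1,2,3,3,3] (by decide +kernel) (by decide +kernel)

theorem r29 : F 2 [5,4,7,3,0,7,1,4] 2 [8,2,5,7,3,4,5,4,1] :=
  ded_first tok83' (by decide +kernel) (by decide +kernel) (by decide +kernel)
    (Pt.mulH (Pt.init 2 [8,4]) (by decide) w_x47 [5,4,7,3,0,7,1,4] [0,1,0,1,0,3,3,3,2,3,2] (by decide +kernel) (by decide +kernel))
    (Pt.mulH (Pt.zi_of (Pt.mulH (Pt.norm (Pt.z (Pt.mulH (Pt.zi_of (Pt.mulH (Pt.norm (Pt.z (Pt.mulH (Pt.init 2 [8,4]) (by decide) (invW invQ []) [8,4] [] (by decide +kernel) (by decide +kernel)) (by decide) r19 [5,6,2,11,15,14,13] [2,1,0,1,2,3,0,3,2] (by decide +kernel) (by decide +kernel) (by decide +kernel)) (by decide) [2,6,2,2,6,3,7,4] [0,1,1,3] (by decide +kernel) (by decide +kernel)) (by decide) (invW invQ w_u) [1,4,3,4,7,4,2,0,2] [1,1,1,0,2,3,1] (by decide +kernel) (by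 decide +kernel))) (by decide) (invW invQ w_x368) [1,4,2,5,1,7,1,2] [0,1,1,1,0,2,3,4] (by decide +kernel) (by decide +kernel)) (by decide) r18 [2,2,8,8] [4,5] (by decide +kernel) (by decide +kernel) (by decide +kernel)) (by decide) [6,0,7,7,3,4,3,1] [3,3,2,1,1,1] (by decide +kernel) (by decide +kernel)) (by decide) (invW invQ w_u) [6,5,7,7,3,4,3,1] [] (by decide +kernel) (by decide +kernel))) (by decide) (invW invQ w_x364) [8,2,5,7,3,4,5,4,1] [3,0,1,2,3,3,2,1,0] (by decide +kernel) (by decide +kernel))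

theorem r30 : F 2 [0,3,4,5,6,2] 3 [6,7,0,7,0,3,7,0,2] :=
  ded_first tok83' (by decide +kernel) (by decide +kernel) (by decide +kernel)
    (Pt.mulH (Pt.init 2 [3,2,1]) (by decide) w_x47 [0,3,4,5,6,2] [0,1,1,2,1,2,1,1,1,0] (by decide +kernel) (by decide +kernel))
    (Pt.mulH (Pt.zi_of (Pt.mulH (Pt.norm (Pt.z (Pt.mulH (Pt.zi_of (Pt.mulH (Pt.norm (Pt.z (Pt.mulH (Pt.init 2 [3,2,1]) (by decide) (invW invQ []) [3,2,1] [] (by decide +kernel) (by decide +kernel)) (by decide) r19 [3,7,13,3,6,1] [1,0,3,3,2,1,2,3,3] (by decide +kernel) (by decide +kernel) (by decide +kernel)) (by decide) [7,4,0,3,4,3,4,7,4,1] [1,0,1,3,4,4,4] (by decide +kernel) (by decide +kernel)) (by decide) (invW invQ w_u) [4,6,7,0,1,4,3,0,2,1] [1,1,0,1,0,1] (by decide +kernel) (by decide +kernel))) (by decide) (invW invQ w_x368) [6,6,2,8,7,4,6,4,3] [0,4,4,4] (by decide +kernel) (by decide +kernel)) (by decide) r17 [1,15,14,1,10,13] [1,0]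 (by decide +kernel) (by decide +kernel) (by decide +kernel)) (by decide) [1,4,6,3,4,6,3,0] [0,1,3,3,1,3] (by decide +kernel) (by decide +kernel)) (by decide) (invW invQ w_u) [5,6,5,1,5,4,2,1] [0,1,3,4,0,1] (by decide +kernel) (by decide +kernel))) (by decide) (invW invQ w_x364) [6,7,0,7,0,3,7,0,2] [0,1,5,0,2,3,5] (by decide +kernel) (by decide +kernel))

theorem r31 : F 3 [6,7,0,7,0,3,7,0,2] 2 [3,0,4,5,6,2] :=
  F.normR (F.rev r30) (by decide) [3,0,4,5,6,2] [] (by decide +kernel) (by decide +kernel)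

theorem r32 : F 4 [4,1,5,4,8,7,0,0,4] 3 [8,4,1,7,7,6] :=
  ded_mid tok83' (by decide +kernel) (by decide +kernel)
    (Pt.mulH (Pt.norm (Pt.z (Pt.mulH (Pt.init 2 [3,4,1]) (by decide) w_x47 [1,1,4,3,4,8,2] [0,3,2,1,2,1] (by decide +kernel) (by decide +kernel)) (by decide) r19 [11,6,5,7,10,6,13] [3,2,3,0,3,2,3,0] (by decide +kernel) (by decide +kernel) (by decide +kernel)) (by decide) [8,7,4,0,2,0,7,3,2,1] [4,0,4,0,4,0,1] (by decide +kernel) (by decide +kernel)) (by decide) w_x364 [4,1,5,4,8,7,0,0,4] [1,0,4,0,1,3,2] (by decide +kernel) (by decide +kernel))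
    (Pt.mulH (Pt.zi_of (Pt.mulH (Pt.norm (Pt.z (Pt.mulH (Pt.init 2 [3,4,1]) (by decide) (invW invQ []) [3,4,1] [] (by decide +kernel) (by decide +kernel)) (by decide) r15 [2,5,11,15,12] [1,2,1,1,1,1,0,3] (by decide +kernel) (by decide +kernel) (by decide +kernel)) (by decide) [5,2,0,4,7,3,2,0] [1,0,0,1] (by decide +kernel) (by decide +kernel)) (by decide) (invW invQ w_u) [5,4,6,2,8,4,7,1,0] [3,3,4,2] (by decide +kernel) (by decide +kernel))) (by decide) (invW invQ w_x368) [8,4,1,7,7,6] [2,1,3,4,5,0] (by decide +kernel) (by decide +kernel))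

theorem r33 : F 3 [8,4,1,7,7,6] 4 [4,3,5,6,2,4,5,2,6] :=
  F.normR (F.rev r32) (by decide) [4,3,5,6,2,4,5,2,6] [4,4,0,1,0,5] (by decide +kernel) (by decide +kernel)

theorem r34 : F 3 [1,4,0,1,0,6,0,4] 3 [8,4,2,3,4,6,7,1] :=
  ded_mid tok83' (by decide +kernel) (by decide +kernel)
    (Pt.mulH (Pt.norm (Pt.z (Pt.mulH (Pt.init 2 [8,4,1]) (by decide) w_x47 [4,7,1,7,8,6,0,4,2] [0,3,0,1,2,1,1,1,1,0] (by decide +kernel) (by decide +kernel)) (by decide) r15 [0,7,2,0,7,5] [2,1,2,3,0,1,1] (by decide +kernel) (by decide +kernel) (by decide +kernel)) (by decide) [4,2,6,5,2,4,2,1] [0,5,0,5,4,3] (by decide +kernel) (by decide +kernel)) (by decide) w_x364 [1,4,0,1,0,6,0,4] [0,0,1,2,0,5,4] (by decide +kernel) (by decide +kernel))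
    (Pt.mulH (Pt.zi_of (Pt.mulH (Pt.norm (Pt.z (Pt.mulH (Pt.init 2 [8,4,1]) (by decide) (invW invQ []) [8,4,1] [] (by decide +kernel) (by decide +kernel)) (by decide) r15 [15,2,5,1,8] [1,2,1,1,1,1,0,3] (by decide +kernel) (by decide +kernel) (by decide +kernel)) (by decide) [2,4,7,3,4,7,0,1] [0,0,4,0,0,2] (by decide +kernel) (by decide +kernel)) (by decide) (invW invQ w_u) [0,2,0,4,7,3,2,0] [0,0,2,4] (by decide +kernel) (by decide +kernel))) (by decide) (invW invQ w_x368) [8,4,2,3,4,6,7,1] [0,0,2,0,5,4] (by decide +kernel) (by decide +kernel))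

theorem r35 : F 4 [1,5,6,7,4,2,2,0,4] 3 [3,2,3,7,4,6,0] :=
  ded_mid tok83' (by decide +kernel) (by decide +kernel)
    (Pt.mulH (Pt.norm (Pt.z (Pt.mulH (Pt.init 2 [4,0,2]) (by decide) w_x47 [2,8,7,5,7,0,1,2] [3,0,1,1,1,0] (by decide +kernel) (by decide +kernel)) (by decide) r19 [2,5,6,4,15,11] [3,2,3,2,1,1,1,0] (by decide +kernel) (by decide +kernel) (by decide +kernel)) (by decide) [7,7,4,3,7,4] [4,4,4] (by decide +kernel) (by decide +kernel)) (by decide) w_x364 [1,5,6,7,4,2,2,0,4] [4,4,4,0] (by decide +kernel) (by decide +kernel))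
    (Pt.mulH (Pt.zi_of (Pt.mulH (Pt.norm (Pt.z (Pt.mulH (Pt.init 2 [4,0,2]) (by decide) (invW invQ []) [4,0,2] [] (by decide +kernel) (by decide +kernel)) (by decide) r15 [8,2,11,6] [2,1,1,1,2] (by decide +kernel) (by decide +kernel) (by decide +kernel)) (by decide) [4,5,5,4,5,4,2,2] [4] (by decide +kernel) (by decide +kernel)) (by decide) (invW invQ w_u) [5,4,1,5,6,4,8,2,1] [4] (by decide +kernel) (by decide +kernel))) (by decide) (invW invQ w_x368) [3,2,3,7,4,6,0] [1,0,0,5] (by decide +kernel) (by decide +kernel))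

theorem r36 : F 3 [3,2,3,7,4,6,0] 4 [2,3,4,0,4,6,4,1,1] :=
  F.normR (F.rev r35) (by decide) [2,3,4,0,4,6,4,1,1] [1,0,5] (by decide +kernel) (by decide +kernel)

theorem r37 : F 4 [6,7,4,8,4,3,2,4] 4 [2,8,2,4,1,5,1,4,7] :=
  ded_mid tok83' (by decide +kernel) (by decide +kernel)
    (Pt.mulH (Pt.norm (Pt.z (Pt.mulH (Pt.init 2 [4,5,2]) (by decide) w_x47 [1,2,8,4,6,7,4] [0,1,2,3,0,1,2,3,3,2] (by decide +kernel) (by decide +kernel)) (by decide) r19 [0,11,5,6,7,6,2] [0,1,0,3,2,3,3,3,0,3,0] (by decide +kernel) (by decide +kernel) (by decide +kernel)) (by decide) [8,2,6,5,4,7,8,4,2,1] [2,0,1,0] (by decide +kernel) (by decide +kernel)) (by decide) w_x364 [6,7,4,8,4,3,2,4] [1,1,0,1,0,1,0] (by decide +kernel) (by decide +kernel))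
    (Pt.mulH (Pt.zi_of (Pt.mulH (Pt.norm (Pt.z (Pt.mulH (Pt.init 2 [4,5,2]) (by decide) (invW invQ []) [4,5,2] [] (by decide +kernel) (by decide +kernel)) (by decide) r19 [0,1,7,8,13,0] [] (by decide +kernel) (by decide +kernel) (by decide +kernel)) (by decide) [0,3,4,0,6,2,5,7] [1,1,0,4,0,1,0,1] (by decide +kernel) (by decide +kernel)) (by decide) (invW invQ w_u) [8,0,4,0,6,2,5,7] [] (by decide +kernel) (by decide +kernel))) (by decide) (invW invQ w_x368) [2,8,2,4,1,5,1,4,7] [1,3,5,4] (by decide +kernel) (by decide +kernel))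

theorem r38 : F 4 [2,8,2,4,1,5,1,4,7] 4 [7,3,2,2,1,4,2,1,2] :=
  F.normR (F.rev r37) (by decide) [7,3,2,2,1,4,2,1,2] [0,1,1,1,0,4,3,4] (by decide +kernel) (by decide +kernel)

theorem r39 : F 2 [7,7,4,2,3,5,6,2,1] 4 [6,7,8,2,1,0,4,3,2] :=
  ded_first tok83' (by decide +kernel) (by decide +kernel) (by decide +kernel)
    (Pt.mulH (Pt.init 2 [3,4,3]) (by decide) w_x47 [7,7,4,2,3,5,6,2,1] [0,3,3,2,1,1,1,0,1] (by decide +kernel) (by decide +kernel))
    (Pt.mulH (Pt.zi_of (Pt.mulH (Pt.norm (Pt.z (Pt.mulH (Pt.zi_of (Pt.mulH (Pt.norm (Pt.z (Pt.mulH (Pt.init 2 [3,4,3]) (by decide) (invW invQ []) [3,4,3] [] (by decide +kernel) (by decide +kernel)) (by decide) r19 [5,7,6,3,13,10,7] [0,1,0,3,2,1,0,1,2] (by decide +kernel) (by decide +kernel) (by decide +kernel)) (by decide) [7,8,2,4,7,0,6,2] [0,1,0,5,0,1,3] (by decide +kernel) (by decide +kernel)) (by decide) (invW invQ w_u) [7,7,8,4,5,7,0,7,1] [1,1,1,2] (by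 decide +kernel) (by decide +kernel))) (by decide) (invW invQ w_x368) [1,1,4,3,1,2,2,0,4] [4,5,0,1,3] (by decide +kernel) (by decide +kernel)) (by decide) r24 [5,7,2,14,3,5] [0,1,3,4,5,4] (by decide +kernel) (by decide +kernel) (by decide +kernel)) (by decide) [4,2,5,7,7,3,4,2,3,1] [0,1,1,1,0,2,0,1] (by decide +kernel) (by decide +kernel)) (by decide) (invW invQ w_u) [1,1,7,8,0,4,5,4,0,2] [0,4,0,1,0] (by decide +kernel) (by decide +kernel))) (by decide) (invW invQ w_x364) [6,7,8,2,1,0,4,3,2] [0,5,4,0] (by decide +kernel) (by decide +kernel))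

theorem r40 : F 4 [6,7,8,2,1,0,4,3,2] 2 [6,6,2,3,4,6,4,1,2] :=
  F.normR (F.rev r39) (by decide) [6,6,2,3,4,6,4,1,2] [1,1,1,0,3,0,3,3,3,2] (by decide +kernel) (by decide +kernel)

theorem r41 : F 4 [1,4,3,4,3,1,2,0,4] 4 [6,7,3,0,4,7,1] :=
  ded_mid tok83' (by decide +kernel) (by decide +kernel)
    (Pt.mulH (Pt.norm (Pt.z (Pt.mulH (Pt.init 2 [3,0,4]) (by decide) w_x47 [4,6,2,2,3,2,1] [0,1,1,2,1,2,1,0,1,1] (by decide +kernel) (by decide +kernel)) (by decide) r19 [7,8,2,5,5] [0,3,2,1,1,1] (by decide +kernel) (by decide +kernel) (by decide +kernel)) (by decide) [7,1,0,3,2,6,2,2] [0,1,1,1,0,1,3,2] (by decide +kernel) (by decide +kernel)) (by decide) w_x364 [1,4,3,4,3,1,2,0,4] [0,4,3,5,4] (by decide +kernel) (by decide +kernel))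
    (Pt.mulH (Pt.zi_of (Pt.mulH (Pt.norm (Pt.z (Pt.mulH (Pt.init 2 [3,0,4]) (by decide) (invW invQ []) [3,0,4] [] (by decide +kernel) (by decide +kernel)) (by decide) r19 [6,2,11,15,14,13] [2,1,0,1,2,3,0,3,2] (by decide +kernel) (by decide +kernel) (by decide +kernel)) (by decide) [8,7,5,4,8,7,0,7,4] [4,4,0,4,3,4] (by decide +kernel) (by decide +kernel)) (by decide) (invW invQ w_u) [0,2,6,2,2,6,3,7,4] [0,1,0,1,0,1,0,1] (by decide +kernel) (by decide +kernel))) (by decide) (invW invQ w_x368) [6,7,3,0,4,7,1] [4,0,4,0,2] (by decide +kernel) (by decide +kernel))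

theorem r42 : F 4 [1,2,8,4,0,2,6,6,7] 4 [8,7,6,6,3,2,6,6] :=
  ded_mid tok83' (by decide +kernel) (by decide +kernel)
    (Pt.mulH (Pt.norm (Pt.z (Pt.mulH (Pt.init 2 [3,1,4]) (by decide) w_x47 [2,0,6,7,5,7,3,4,1] [3,2,3,2,3,2,1,2,1,0] (by decide +kernel) (by decide +kernel)) (by decide) r19 [5,5,5,8,10] [1,1,0,1,2,1,1] (by decide +kernel) (by decide +kernel) (by decide +kernel)) (by decide) [7,0,7,4,6,5,2,1,1] [4] (by decide +kernel) (by decide +kernel)) (by decide) w_x364 [1,2,8,4,0,2,6,6,7] [1] (by decide +kernel) (by decide +kernel))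
    (Pt.mulH (Pt.zi_of (Pt.mulH (Pt.norm (Pt.z (Pt.mulH (Pt.init 2 [3,1,4]) (by decide) (invW invQ []) [3,1,4] [] (by decide +kernel) (by decide +kernel)) (by decide) r19 [0,14,2,5,7,6] [1,0,1,2,3,3,3,2,1,2] (by decide +kernel) (by decide +kernel) (by decide +kernel)) (by decide) [6,5,6,2,2,3,7,6,0,2] [1,1,2,0,1,0] (by decide +kernel) (by decide +kernel)) (by decide) (invW invQ w_u) [2,3,0,1,4,3,1,4,7,1] [0,4,0,5,0,1] (by decide +kernel) (by decide +kernel))) (by decide) (invW invQ w_x368) [8,7,6,6,3,2,6,6] [1,5,3] (by decide +kernel) (by decide +kernel))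

theorem r43 : F 4 [8,7,6,6,3,2,6,6] 4 [0,2,6,4,3,4,5,4,3,2] :=
  F.normR (F.rev r42) (by decide) [0,2,6,4,3,4,5,4,3,2] [1,0,2,0] (by decide +kernel) (by decide +kernel)

theorem r44 : F 4 [0,7,3,4,5,1,2,3] 4 [4,5,6,6,4,7,3,4,1,4] :=
  ded_mid tok83' (by decide +kernel) (by decide +kernel)
    (Pt.mulH (Pt.norm (Pt.z (Pt.mulH (Pt.init 2 [8,2,4]) (by decide) w_x47 [8,2,4,7,8,0,7,4] [0,3,0,1,0,1,1,1,2,3] (by decide +kernel) (by decide +kernel)) (by decide) r39 [0,15,0,14,2,13] [2,3,3,0,1,2,1] (by decide +kernel) (by decide +kernel) (by decide +kernel)) (by decide) [6,4,8,7,4,8,4,2,2] [0,1,0,2,0] (by decide +kernel) (by decide +kernel)) (by decide) w_x364 [0,7,3,4,5,1,2,3] [1,1,0,1,0,4,5] (by decide +kernel) (by decide +kernel))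
    (Pt.mulH (Pt.zi_of (Pt.mulH (Pt.norm (Pt.z (Pt.mulH (Pt.init 2 [8,2,4]) (by decide) (invW invQ []) [8,2,4] [] (by decide +kernel) (by decide +kernel)) (by decide) r39 [13,10,11,14,13] [0,3,3,2,3,2,1,0] (by decide +kernel) (by decide +kernel) (by decide +kernel)) (by decide) [7,3,7,3,4,1,7] [1,0,4,5] (by decide +kernel) (by decide +kernel)) (by decide) (invW invQ w_u) [5,5,7,3,7,3,4,1,7] [] (by decide +kernel) (by decide +kernel))) (by decide) (invW invQ w_x368) [4,5,6,6,4,7,3,4,1,4] [0,1,1,1,0,2,3,1] (by decide +kernel) (by decide +kernel))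

theorem r45 : F 2 [4,7,0,3,7,0,6,4,1] 3 [4,3,4,3,0,1,2,5,4] :=
  ded_first tok83' (by decide +kernel) (by decide +kernel) (by decide +kernel)
    (Pt.mulH (Pt.init 2 [3,7,4]) (by decide) w_x47 [4,7,0,3,7,0,6,4,1] [3,2,3,3,3,2,1,2,3] (by decide +kernel) (by decide +kernel))
    (Pt.mulH (Pt.zi_of (Pt.mulH (Pt.norm (Pt.z (Pt.mulH (Pt.zi_of (Pt.mulH (Pt.norm (Pt.z (Pt.mulH (Pt.init 2 [3,7,4]) (by decide) (invW invQ []) [3,7,4] [] (by decide +kernel) (by decide +kernel)) (by decide) r39 [0,13,11,15,9] [0,3,0,3,2,1,2,3,2] (by decide +kernel) (by decide +kernel) (by decide +kernel)) (by decide) [3,1,2,3,2,2,0,4,6,2] [1,0,1,0,1] (by decide +kernel) (by decide +kernel)) (by decide) (invW invQ w_u) [2,5,6,0,6,4,8,7,3,2] [3,2] (by decide +kernel) (by decide +kernel))) (by decide) (invW invQ w_x368) [5,6,3,2,0,4,8,2,2,1] [1,1,0,1,0,1,2] (by decide +kernel) (by decide +kernel)) (by decide) r17 [10,6,7,6,2,6] [0,4,4,5,0]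 (by decide +kernel) (by decide +kernel) (by decide +kernel)) (by decide) [0,2,4,8,4,5,7,0] [0,0,5,4,0,0] (by decide +kernel) (by decide +kernel)) (by decide) (invW invQ w_u) [5,2,4,8,4,5,7,0] [] (by decide +kernel) (by decide +kernel))) (by decide) (invW invQ w_x364) [4,3,4,3,0,1,2,5,4] [0,0,0,4,0] (by decide +kernel) (by decide +kernel))

theorem r46 : F 3 [4,3,4,3,0,1,2,5,4] 2 [1,2,8,4,7,6,5,2] :=
  F.normR (F.rev r45) (by decide) [1,2,8,4,7,6,5,2] [2,3,3,0,1,0,1,0,1] (by decide +kernel) (by decide +kernel)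

theorem r47 : F 3 [1,5,4,3,4,5,7,4] 4 [5,2,2,6,5,7,4,3,2] :=
  ded_mid tok83' (by decide +kernel) (by decide +kernel)
    (Pt.mulH (Pt.norm (Pt.z (Pt.mulH (Pt.init 2 [8,7,4]) (by decide) w_x47 [8,7,5,2,6,3,4,0,2] [2,3,0,1,0,1,1,1,2] (by decide +kernel) (by decide +kernel)) (by decide) r45 [2,1,15,11,13] [3,3,0,3,2,1,2,3,3,0] (by decide +kernel) (by decide +kernel) (by decide +kernel)) (by decide) [6,6,7,3,7,5,4,5,2] [0,5,0,2] (by decide +kernel) (by decide +kernel)) (by decide) w_x364 [1,5,4,3,4,5,7,4] [0,4,5,3,5] (by decide +kernel) (by decide +kernel))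
    (Pt.mulH (Pt.zi_of (Pt.mulH (Pt.norm (Pt.z (Pt.mulH (Pt.init 2 [8,7,4]) (by decide) (invW invQ []) [8,7,4] [] (by decide +kernel) (by decide +kernel)) (by decide) r39 [15,2,8,13] [0,3,0,3,2,1,2,3,2] (by decide +kernel) (by decide +kernel) (by decide +kernel)) (by decide) [8,1,2,3,2,2,0,4,6,2] [1,0,1,0,1] (by decide +kernel) (by decide +kernel)) (by decide) (invW invQ w_u) [7,5,4,3,2,5,6,6,2,1] [1,1,0,1,0,1,3,1] (by decide +kernel) (by decide +kernel))) (by decide) (invW invQ w_x368) [5,2,2,6,5,7,4,3,2] [1,1,1,0,5,3,1] (by decide +kernel) (by decide +kernel))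

theorem r48 : F 4 [5,2,2,6,5,7,4,3,2] 3 [7,4,8,1,1,4,3,2] :=
  F.normR (F.rev r47) (by decide) [7,4,8,1,1,4,3,2] [0,0,1,3,3,5,4] (by decide +kernel) (by decide +kernel)

theorem r49 : F 4 [0,7,7,3,4,1,1,2,1,2] 4 [6,4,3,5,2,6,4,3,1,1] :=
  ded_mid tok83' (by decide +kernel) (by decide +kernel)
    (Pt.mulH (Pt.norm (Pt.z (Pt.mulH (Pt.init 2 [3,2,6]) (by decide) w_x47 [7,7,3,4,5,2,4] [2,1,1,2,3,2,1,1] (by decide +kernel) (by decide +kernel)) (by decide) r39 [0,10,9,13,3,14] [0,1,1,2,3,0,3,2] (by decide +kernel) (by decide +kernel) (by decide +kernel)) (by decide) [3,0,4,8,0,1,1,4,3] [0,4,3,1,1] (by decide +kernel) (by decide +kernel)) (by decide) w_x364 [0,7,7,3,4,1,1,2,1,2] [1,1,0,1,3,5] (by decide +kernel) (by decide +kernel))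
    (Pt.mulH (Pt.zi_of (Pt.mulH (Pt.norm (Pt.z (Pt.mulH (Pt.init 2 [3,2,6]) (by decide) (invW invQ []) [3,2,6] [] (by decide +kernel) (by decide +kernel)) (by decide) r19 [1,6,15,2,11,13] [1,2,3,3,0,1,0] (by decide +kernel) (by decide +kernel) (by decide +kernel)) (by decide) [0,2,5,1,7,4,5,2,1] [1,1,1,1] (by decide +kernel) (by decide +kernel)) (by decide) (invW invQ w_u) [5,2,5,1,7,4,5,2,1] [] (by decide +kernel) (by decide +kernel))) (by decide) (invW invQ w_x368) [6,4,3,5,2,6,4,3,1,1] [1,1,0,1,0,2,1] (by decide +kernel) (by decide +kernel))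

theorem r50 : F 4 [2,5,1,7,4,5,6,2,4] 4 [1,1,7,3,0,2,5,4,3] :=
  ded_mid tok83' (by decide +kernel) (by decide +kernel)
    (Pt.mulH (Pt.norm (Pt.z (Pt.mulH (Pt.init 2 [4,0,7]) (by decide) w_x47 [7,3,0,2,1,7,6,2] [1,2,3,3,3,2,1,0,3,0] (by decide +kernel) (by decide +kernel)) (by decide) r39 [1,5,1,15,3,13] [1,0,1,1,1,0,3,3,3] (by decide +kernel) (by decide +kernel) (by decide +kernel)) (by decide) [5,1,2,8,4,3,4,6,2] [0,1,1,1,0,2,3,4] (by decide +kernel) (by decide +kernel)) (by decide) w_x364 [2,5,1,7,4,5,6,2,4] [0,4,0,1,0,5,0,1] (by decide +kernel) (by decide +kernel))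
    (Pt.mulH (Pt.zi_of (Pt.mulH (Pt.norm (Pt.z (Pt.mulH (Pt.init 2 [4,0,7]) (by decide) (invW invQ []) [4,0,7] [] (by decide +kernel) (by decide +kernel)) (by decide) r19 [6,7,9,7,0] [0,1,1,1,1,2] (by decide +kernel) (by decide +kernel) (by decide +kernel)) (by decide) [3,4,8,7,7,3,2,1,1] [0,4,0,2,1] (by decide +kernel) (by decide +kernel)) (by decide) (invW invQ w_u) [8,4,6,4,0,3,4,3,2] [1,0,1,0,2,3] (by decide +kernel) (by decide +kernel))) (by decide) (invW invQ w_x368) [1,1,7,3,0,2,5,4,3] [0,5,4,0] (by decide +kernel) (by decide +kernel))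

theorem r51 : F 4 [4,1,4,2,2,3,7,3,2] 4 [8,4,5,4,2,3,2,1,4] :=
  ded_mid tok83' (by decide +kernel) (by decide +kernel)
    (Pt.mulH (Pt.norm (Pt.z (Pt.mulH (Pt.init 2 [8,2,1,1]) (by decide) w_x47 [8,2,5,4,2,1,0,2,1] [1,1,0,1,0,1,2,1,0,1] (by decide +kernel) (by decide +kernel)) (by decide) r39 [1,11,12,5] [0,3,3,0,1,2] (by decide +kernel) (by decide +kernel) (by decide +kernel)) (by decide) [8,7,3,1,0,4,5,4,1,1] [1,1,1,3,4] (by decide +kernel) (by decide +kernel)) (by decide) w_x364 [4,1,4,2,2,3,7,3,2] [1,1,0,2,0,4] (by decide +kernel) (by decide +kernel))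
    (Pt.mulH (Pt.zi_of (Pt.mulH (Pt.norm (Pt.z (Pt.mulH (Pt.init 2 [8,2,1,1]) (by decide) (invW invQ []) [8,2,1,1] [] (by decide +kernel) (by decide +kernel)) (by decide) r19 [5,6,15,9,6,5,1,6] [0,3,0,3,0,1,0,3,2,3] (by decide +kernel) (by decide +kernel) (by decide +kernel)) (by decide) [3,1,7,6,7,3,4,2,1] [1,2,0,4] (by decide +kernel) (by decide +kernel)) (by decide) (invW invQ w_u) [0,4,0,0,7,6,3,4,2] [3,4,4] (by decide +kernel) (by decide +kernel))) (by decide) (invW invQ w_x368) [8,4,5,4,2,3,2,1,4] [1,1,0,1,0,1,0,2] (by decide +kernel) (by decide +kernel))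

theorem r52 : F 4 [7,3,5,2,6,6,5,4,3] 3 [1,5,6,7,3,4,6,3,2] :=
  ded_mid tok83' (by decide +kernel) (by decide +kernel)
    (Pt.mulH (Pt.norm (Pt.z (Pt.mulH (Pt.init 2 [8,4,2,1]) (by decide) w_x47 [4,0,3,4,5,7,7,4] [0,1,0,1,0,1,2] (by decide +kernel) (by decide +kernel)) (by decide) r39 [15,3,6,13,2] [0,1,0,1,2,3,0,1,2] (by decide +kernel) (by decide +kernel) (by decide +kernel)) (by decide) [7,3,2,3,4,6,4,0,2] [0,5,0,1,0] (by decide +kernel) (by decide +kernel)) (by decide) w_x364 [7,3,5,2,6,6,5,4,3] [0,4,0,4,0,5,4] (by decide +kernel) (by decide +kernel))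
    (Pt.mulH (Pt.zi_of (Pt.mulH (Pt.norm (Pt.z (Pt.mulH (Pt.init 2 [8,4,2,1]) (by decide) (invW invQ []) [8,4,2,1] [] (by decide +kernel) (by decide +kernel)) (by decide) r15 [2,1,6,7,3,6,5] [1,1,0,3,2,3] (by decide +kernel) (by decide +kernel) (by decide +kernel)) (by decide) [1,7,0,4,8,2,1,0] [1,0,0,5] (by decide +kernel) (by decide +kernel)) (by decide) (invW invQ w_u) [0,4,7,3,1,4,7,3] [4,2,0,5,3,4] (by decide +kernel) (by decide +kernel))) (by decide) (invW invQ w_x368) [1,5,6,7,3,4,6,3,2] [4,2,0,5] (by decide +kernel) (by decide +kernel))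

theorem r53 : F 3 [1,5,6,7,3,4,6,3,2] 4 [2,6,7,3,4,0,3,4,1,1] :=
  F.normR (F.rev r52) (by decide) [2,6,7,3,4,0,3,4,1,1] [0,1,0,1,3,2,1] (by decide +kernel) (by decide +kernel)

theorem r54 : F 4 [6,5,2,1,0,4,7,8,2] 3 [3,0,6,7,3,0,4,1,0] :=
  ded_mid tok83' (by decide +kernel) (by decide +kernel)
    (Pt.mulH (Pt.norm (Pt.z (Pt.mulH (Pt.init 2 [3,4,3,1]) (by decide) w_x47 [1,1,4,3,4,8,2,3] [1,0,1,0,3,3,3,0,3,2] (by decide +kernel) (by decide +kernel)) (by decide) r19 [0,6,0,5,15,14,13] [3,2,1,1,2,3,0,3,3,3] (by decide +kernel) (by decide +kernel) (by decide +kernel)) (by decide) [8,7,6,4,3,2,5,1,2,1] [1,3,4,4,5] (by decide +kernel) (by decide +kernel)) (by decide) w_x364 [6,5,2,1,0,4,7,8,2] [1,0,4,0,2,3] (by decide +kernel) (by decide +kernel))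
    (Pt.mulH (Pt.zi_of (Pt.mulH (Pt.norm (Pt.z (Pt.mulH (Pt.init 2 [3,4,3,1]) (by decide) (invW invQ []) [3,4,3,1] [] (by decide +kernel) (by decide +kernel)) (by decide) r15 [3,5,7,14,10,7,5] [2,3,2,1,0,1,1] (by decide +kernel) (by decide +kernel) (by decide +kernel)) (by decide) [5,2,0,4,7,8,2,0] [1,0,0] (by decide +kernel) (by decide +kernel)) (by decide) (invW invQ w_u) [1,7,4,2,8,7,4,0] [1,3,3,1,5] (by decide +kernel) (by decide +kernel))) (by decide) (invW invQ w_x368) [3,0,6,7,3,0,4,1,0] [4,3,3,5] (by decide +kernel) (by decide +kernel))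

theorem r55 : F 3 [3,0,6,7,3,0,4,1,0] 4 [6,7,3,5,1,0,2,3,1] :=
  F.normR (F.rev r54) (by decide) [6,7,3,5,1,0,2,3,1] [0,1,3,1,1] (by decide +kernel) (by decide +kernel)

theorem r56 : F 4 [4,8,1,7,1,1,0,1,4,1] 4 [6,6,5,2,3,2,2,1] :=
  ded_mid tok83' (by decide +kernel) (by decide +kernel)
    (Pt.mulH (Pt.norm (Pt.z (Pt.mulH (Pt.init 2 [8,2,4,1]) (by decide) w_x47 [2,8,4,1,7,0,2] [1,0,1,2,3,0,1,0,1,0] (by decide +kernel) (by decide +kernel)) (by decide) r39 [3,7,6,11,5,6,7] [0,3,2,1,2,3,0,3,3] (by decide +kernel) (by decide +kernel) (by decide +kernel)) (by decide) [3,4,8,6,2,0,7,6,2] [4,0,2,1] (by decide +kernel) (by decide +kernel)) (by decide) w_x364 [4,8,1,7,1,1,0,1,4,1] [0,1,0,1,0,1,2] (by decide +kernel) (by decide +kernel))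
    (Pt.mulH (Pt.zi_of (Pt.mulH (Pt.norm (Pt.z (Pt.mulH (Pt.init 2 [8,2,4,1]) (by decide) (invW invQ []) [8,2,4,1] [] (by decide +kernel) (by decide +kernel)) (by decide) r19 [9,14,10,0,5] [3,3,3,2,3,2,1,0,3] (by decide +kernel) (by decide +kernel) (by decide +kernel)) (by decide) [6,6,0,4,7,3,4,2,1] [1,5] (by decide +kernel) (by decide +kernel)) (by decide) (invW invQ w_u) [6,6,5,4,7,3,4,2,1] [] (by decide +kernel) (by decide +kernel))) (by decide) (invW invQ w_x368) [6,6,5,2,3,2,2,1] [1,0,1,0,1,3] (by decide +kernel) (by decide +kernel))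

theorem r57 : F 4 [6,6,5,2,3,2,2,1] 4 [5,4,5,6,7,3,2,4,0,2] :=
  F.normR (F.rev r56) (by decide) [5,4,5,6,7,3,2,4,0,2] [0,1,0,1,0,1,0,2] (by decide +kernel) (by decide +kernel)

theorem r58 : F 3 [8,7,6,3,0,0,4,3] 3 [6,2,1,5,2,8,4,1,4] :=
  ded_mid tok83' (by decide +kernel) (by decide +kernel)
    (Pt.mulH (Pt.norm (Pt.z (Pt.mulH (Pt.init 2 [0,3,4,1]) (by decide) w_x47 [7,6,4,0,3,1,4,6] [3,3,0,1,1,1,0,1,2] (by decide +kernel) (by decide +kernel)) (by decide) r30 [1,6,2,5,6,5] [0,3,3,0,1,2,3,2,3] (by decide +kernel) (by decide +kernel) (by decide +kernel)) (by decide) [1,2,2,0,7,4,2,5,4] [3,4,0,5] (by decide +kernel) (by decide +kernel)) (by decide) w_x364 [8,7,6,3,0,0,4,3] [1,3,3,4,2] (by decide +kernel) (by decide +kernel))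
    (Pt.mulH (Pt.zi_of (Pt.mulH (Pt.norm (Pt.z (Pt.mulH (Pt.init 2 [0,3,4,1]) (by decide) (invW invQ []) [0,3,4,1] [] (by decide +kernel) (by decide +kernel)) (by decide) r15 [0,2,7,1] [1,2,1,1,1,1,0,3] (by decide +kernel) (by decide +kernel) (by decide +kernel)) (by decide) [3,3,2,0,4,7,3,2,0] [1,0,0,1] (by decide +kernel) (by decide +kernel)) (by decide) (invW invQ w_u) [0,0,2,0,4,7,3,2,0] [] (by decide +kernel) (by decide +kernel))) (by decide) (invW invQ w_x368) [6,2,1,5,2,8,4,1,4] [1,0,4,0,0] (by decide +kernel) (by decide +kernel))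

theorem r59 : F 3 [6,5,2,3,0,2,4,6,0] 3 [4,2,3,4,1,7,0,3,4] :=
  ded_mid tok83' (by decide +kernel) (by decide +kernel)
    (Pt.mulH (Pt.norm (Pt.z (Pt.mulH (Pt.init 2 [7,3,4,1]) (by decide) w_x47 [4,7,7,8,7,7,0,2] [0,1,2,1,2,1,2] (by decide +kernel) (by decide +kernel)) (by decide) r30 [2,1,2,15,8] [1,1,1,1,2,3,0,1,0] (by decide +kernel) (by decide +kernel) (by decide +kernel)) (by decide) [6,6,4,2,3,2,2,1] [0,1,5,0,2,2] (by decide +kernel) (by decide +kernel)) (by decide) w_x364 [6,5,2,3,0,2,4,6,0] [1,2,0,5] (by decide +kernel) (by decide +kernel))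
    (Pt.mulH (Pt.zi_of (Pt.mulH (Pt.norm (Pt.z (Pt.mulH (Pt.init 2 [7,3,4,1]) (by decide) (invW invQ []) [7,3,4,1] [] (by decide +kernel) (by decide +kernel)) (by decide) r15 [13,11,7,1,8] [1,2,1,1,1,1,0,3] (by decide +kernel) (by decide +kernel) (by decide +kernel)) (by decide) [6,4,5,5,2,3,4,2,2] [0,0,5,1,3,3] (by decide +kernel) (by decide +kernel)) (by decide) (invW invQ w_u) [4,1,7,8,4,1,0,2,1] [0,0,1,0,0,2] (by decide +kernel) (by decide +kernel))) (by decide) (invW invQ w_x368) [4,2,3,4,1,7,0,3,4] [0,4,3,1,5] (by decide +kernel) (by decide +kernel))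

theorem r60 : F 4 [0,2,3,2,4,0,7,4] 4 [7,6,5,2,5,2,3,1,4] :=
  ded_mid tok83' (by decide +kernel) (by decide +kernel)
    (Pt.mulH (Pt.norm (Pt.z (Pt.mulH (Pt.init 2 [8,7,4,1]) (by decide) w_x47 [6,2,8,4,3,1,4,7] [2,1,0,3,0,1,2,3,0] (by decide +kernel) (by decide +kernel)) (by decide) r19 [0,4,6,3,13,14] [3,3,3,2,3,0,3,2,1] (by decide +kernel) (by decide +kernel) (by decide +kernel)) (by decide) [8,2,6,4,5,7,6,7] [1,1,3,4] (by decide +kernel) (by decide +kernel)) (by decide) w_x364 [0,2,3,2,4,0,7,4] [1,0,1,3,4,5] (by decide +kernel) (by decide +kernel))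
    (Pt.mulH (Pt.zi_of (Pt.mulH (Pt.norm (Pt.z (Pt.mulH (Pt.init 2 [8,7,4,1]) (by decide) (invW invQ []) [8,7,4,1] [] (by decide +kernel) (by decide +kernel)) (by decide) r19 [1,1,8,8,15] [1,2,1,0,1,0] (by decide +kernel) (by decide +kernel) (by decide +kernel)) (by decide) [7,8,2,2,3,7,6,2] [0,1,0,1,1,2,3,1] (by decide +kernel) (by decide +kernel)) (by decide) (invW invQ w_u) [3,5,7,5,7,5,4,0,7] [0,1,0,4,0,2,1] (by decide +kernel) (by decide +kernel))) (by decide) (invW invQ w_x368) [7,6,5,2,5,2,3,1,4] [0,1,0,1,2,1,0] (by decide +kernel) (by decide +kernel))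

theorem r61 : F 4 [2,2,0,7,8,4,2,0,4] 3 [2,8,1,7,3,7,3,4,0] :=
  ded_mid tok83' (by decide +kernel) (by decide +kernel)
    (Pt.mulH (Pt.norm (Pt.z (Pt.mulH (Pt.init 2 [7,8,4,1]) (by decide) w_x47 [0,7,3,0,1,4,0,2] [1,2,1,1,0,3,2] (by decide +kernel) (by decide +kernel)) (by decide) r39 [0,3,14,2] [0,1,2,3,3,0,1,2,1,0,1] (by decide +kernel) (by decide +kernel) (by decide +kernel)) (by decide) [4,0,7,6,4,3,3,0,4] [1,1,0,4,3,5] (by decide +kernel) (by decide +kernel)) (by decide) w_x364 [2,2,0,7,8,4,2,0,4] [1,0,1,1,2,0,4,3] (by decide +kernel) (by decide +kernel))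
    (Pt.mulH (Pt.zi_of (Pt.mulH (Pt.norm (Pt.z (Pt.mulH (Pt.init 2 [7,8,4,1]) (by decide) (invW invQ []) [7,8,4,1] [] (by decide +kernel) (by decide +kernel)) (by decide) r15 [10,7,13,0,11] [1,2,1,1,1,1,0,3] (by decide +kernel) (by decide +kernel) (by decide +kernel)) (by decide) [8,2,0,0,4,8,2,6,0] [2,2,3,4,0] (by decide +kernel) (by decide +kernel)) (by decide) (invW invQ w_u) [3,2,2,4,8,2,6,0] [] (by decide +kernel) (by decide +kernel))) (by decide) (invW invQ w_x368) [2,8,1,7,3,7,3,4,0] [1,0,4,5] (by decide +kernel) (by decide +kernel))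

theorem r62 : F 3 [2,8,1,7,3,7,3,4,0] 4 [2,5,2,3,4,2,0,4] :=
  F.normR (F.rev r61) (by decide) [2,5,2,3,4,2,0,4] [] (by decide +kernel) (by decide +kernel)

theorem r63 : F 4 [7,6,2,3,7,3,2,3,2,1] 4 [4,1,4,6,3,2,0,4,2] :=
  ded_mid tok83' (by decide +kernel) (by decide +kernel)
    (Pt.mulH (Pt.norm (Pt.z (Pt.mulH (Pt.init 2 [4,8,4,2]) (by decide) w_x47 [0,3,4,2,3,2,5,2,3] [3,0,1] (by decide +kernel) (by decide +kernel)) (by decide) r19 [0,10,15,10,5,15] [2,1,0,3,0,3,3,3] (by decide +kernel) (by decide +kernel) (by decide +kernel)) (by decide) [4,3,7,5,4,2,4,8,2] [1,1,0,4,0,4,5] (by decide +kernel) (by decide +kernel)) (by decide) w_x364 [7,6,2,3,7,3,2,3,2,1] [0,1,3] (by decide +kernel) (by decide +kernel))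
    (Pt.mulH (Pt.zi_of (Pt.mulH (Pt.norm (Pt.z (Pt.mulH (Pt.init 2 [4,8,4,2]) (by decide) (invW invQ []) [4,8,4,2] [] (by decide +kernel) (by decide +kernel)) (by decide) r19 [6,2,13,2,6] [0,3,3,2,1,0,1,1,2] (by decide +kernel) (by decide +kernel) (by decide +kernel)) (by decide) [2,5,1,0,7,7,4,5,7] [1,5] (by decide +kernel) (by decide +kernel)) (by decide) (invW invQ w_u) [0,1,7,5,4,0,7,1,2,1] [1,2,1] (by decide +kernel) (by decide +kernel))) (by decide) (invW invQ w_x368) [4,1,4,6,3,2,0,4,2] [0,1,0,2,1] (by decide +kernel) (by decide +kernel))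

theorem r64 : F 2 [0,4,8,2,4,8,0,2,4] 2 [5,7,8,1,4,3,0,2,3] :=
  ded_first tok83' (by decide +kernel) (by decide +kernel) (by decide +kernel)
    (Pt.mulH (Pt.init 2 [8,4,1,4]) (by decide) w_x47 [0,4,8,2,4,8,0,2,4] [0,3,2,3,2,1,1,1] (by decide +kernel) (by decide +kernel))
    (Pt.mulH (Pt.zi_of (Pt.mulH (Pt.norm (Pt.z (Pt.mulH (Pt.zi_of (Pt.mulH (Pt.norm (Pt.z (Pt.mulH (Pt.init 2 [8,4,1,4]) (by decide) (invW invQ []) [8,4,1,4] [] (by decide +kernel) (by decide +kernel)) (by decide) r39 [0,5,6,7,0,14,9] [2,1,1,2,3,2,1] (by decide +kernel) (by decide +kernel) (by decide +kernel)) (by decide) [6,7,6,2,0,3,7,0,2] [0,1,3,5,4] (by decide +kernel) (by decide +kernel)) (by decide) (invW invQ w_u) [7,5,7,0,3,7,5,4] [4,0,4,0,4,3,1] (by decide +kernel) (by decide +kernel))) (by decide) (invW invQ w_x368) [8,2,6,2,6,3,2,0,2,1] [0,1,0,4,0,1,0,4] (by decide +kernel) (by decide +kernel)) (by decide) r40 [6,1,7,14,3,5]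 [2,1] (by decide +kernel) (by decide +kernel) (by decide +kernel)) (by decide) [0,1,4,2,8,7,6,0,4] [0,1,1,1,2,1,0,3,0,3,3] (by decide +kernel) (by decide +kernel)) (by decide) (invW invQ w_u) [3,4,8,0,2,3,4,2,2] [1,2,1,1,1,0,1,0,1,1] (by decide +kernel) (by decide +kernel))) (by decide) (invW invQ w_x364) [5,7,8,1,4,3,0,2,3] [3,2,3,2,1,0,3,3] (by decide +kernel) (by decide +kernel))

theorem r65 : F 3 [6,6,2,3,0,4,8,4,0] 3 [5,4,3,2,3,4,6,3,0] :=
  ded_mid tok83' (by decide +kernel) (by decide +kernel)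
    (Pt.mulH (Pt.norm (Pt.z (Pt.mulH (Pt.init 2 [8,4,2,4]) (by decide) w_x47 [3,4,8,0,2,0,4,0,2] [2,1,1,2,3,2,3,2] (by decide +kernel) (by decide +kernel)) (by decide) r45 [4,6,7,14,3,5] [0,1,0,1,2,3,3,3,2,1] (by decide +kernel) (by decide +kernel) (by decide +kernel)) (by decide) [6,2,8,2,4,6,2,0] [1,2,3,2,4] (by decide +kernel) (by decide +kernel)) (by decide) w_x364 [6,6,2,3,0,4,8,4,0] [3,3,1,2,0,2] (by decide +kernel) (by decide +kernel))
    (Pt.mulH (Pt.zi_of (Pt.mulH (Pt.norm (Pt.z (Pt.mulH (Pt.init 2 [8,4,2,4]) (by decide) (invW invQ []) [8,4,2,4] [] (by decide +kernel) (by decide +kernel)) (by decide) r30 [4,7,0,6,13] [0,1,1,1,1,0,3,0] (by decide +kernel) (by decide +kernel) (by decide +kernel)) (by decide) [2,4,2,3,4,0,4,7,1] [1,0,0,5,4,0] (by decide +kernel) (by decide +kernel)) (by decide) (invW invQ w_u) [1,0,4,8,4,6,4,7,1] [2,3,5,1,3,2] (by decide +kernel) (by decide +kernel))) (by decide)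 (invW invQ w_x368) [5,4,3,2,3,4,6,3,0] [3,5,3,1,2] (by decide +kernel) (by decide +kernel))

/-- The rows. -/
def rowsT : List (Nat × List Nat × Nat × List Nat) :=
  [(0,[],1,[]),
   (1,[],0,[]),
   (1,[8],2,[]),
   (2,[],1,[3]),
   (1,[2,1,2,3,6,6,2,3,1,2,1,1,2,6,5,6,6,5,6,0,1],3,[]),
   (3,[],1,[0,6,3,0,2,4]),
   (1,[3,1],4,[]),
   (4,[],1,[3,1]),
   (1,[1],1,[1]),
   (4,[3],2,[1]),
   (2,[1],4,[3]),
   (3,[7,5,2,3,0,1],3,[1,5,6,7,1,2]),
   (4,[1,0,6,3],4,[1,0,6,3]),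
   (1,[2,4],1,[6,0,2,4]),
   (3,[2,4,6,0,2,1],2,[1,2,3,5,2,3,1]),
   (2,[1,2,3,5,2,3,1],3,[2,2,6,7,6,4]),
   (3,[5,5,7,1,4,6,7],4,[7,4,3,0,1,2,1,1,2]),
   (4,[7,4,3,0,1,2,1,1,2],3,[7,1,4,6,7]),
   (4,[4,0,1,0,1,7,5,2],2,[6,0,1,2,6,4,0,2]),
   (2,[6,0,1,2,6,4,0,2],4,[4,1,2,2,0,7,1]),
   (2,[4,7,0,4,8,2],2,[6,4,0,1,2,1]),
   (4,[4,2,6,6,5,1,1,2,1],4,[0,2,8,4,5,1,2,1]),
   (4,[6,4,6,6,0,1,2,1,1],4,[8,4,2,2,3,4,7,0,2]),
   (4,[0,4,0,6,4,6,5,2,1],4,[3,4,6,6,0,3,4,1]),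
   (4,[3,4,6,6,0,3,4,1],4,[1,1,4,5,4,1,4,3,1]),
   (4,[7,7,1,4,2,1],3,[6,0,2,6,4,5,2,3]),
   (3,[6,0,2,6,4,5,2,3],4,[7,1,0,0,4,2,1]),
   (2,[2,6,4,2,2],3,[6,7,6,7,5,4,3,0]),
   (3,[6,7,6,7,5,4,3,0],2,[4,7,4,3,1,1]),
   (2,[5,4,7,3,0,7,1,4],2,[8,2,5,7,3,4,5,4,1]),
   (2,[0,3,4,5,6,2],3,[6,7,0,7,0,3,7,0,2]),
   (3,[6,7,0,7,0,3,7,0,2],2,[3,0,4,5,6,2]),
   (4,[4,1,5,4,8,7,0,0,4],3,[8,4,1,7,7,6]),
   (3,[8,4,1,7,7,6],4,[4,3,5,6,2,4,5,2,6]),
   (3,[1,4,0,1,0,6,0,4],3,[8,4,2,3,4,6,7,1]),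
   (4,[1,5,6,7,4,2,2,0,4],3,[3,2,3,7,4,6,0]),
   (3,[3,2,3,7,4,6,0],4,[2,3,4,0,4,6,4,1,1]),
   (4,[6,7,4,8,4,3,2,4],4,[2,8,2,4,1,5,1,4,7]),
   (4,[2,8,2,4,1,5,1,4,7],4,[7,3,2,2,1,4,2,1,2]),
   (2,[7,7,4,2,3,5,6,2,1],4,[6,7,8,2,1,0,4,3,2]),
   (4,[6,7,8,2,1,0,4,3,2],2,[6,6,2,3,4,6,4,1,2]),
   (4,[1,4,3,4,3,1,2,0,4],4,[6,7,3,0,4,7,1]),
   (4,[1,2,8,4,0,2,6,6,7],4,[8,7,6,6,3,2,6,6]),
   (4,[8,7,6,6,3,2,6,6],4,[0,2,6,4,3,4,5,4,3,2]),
   (4,[0,7,3,4,5,1,2,3],4,[4,5,6,6,4,7,3,4,1,4]),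
   (2,[4,7,0,3,7,0,6,4,1],3,[4,3,4,3,0,1,2,5,4]),
   (3,[4,3,4,3,0,1,2,5,4],2,[1,2,8,4,7,6,5,2]),
   (3,[1,5,4,3,4,5,7,4],4,[5,2,2,6,5,7,4,3,2]),
   (4,[5,2,2,6,5,7,4,3,2],3,[7,4,8,1,1,4,3,2]),
   (4,[0,7,7,3,4,1,1,2,1,2],4,[6,4,3,5,2,6,4,3,1,1]),
   (4,[2,5,1,7,4,5,6,2,4],4,[1,1,7,3,0,2,5,4,3]),
   (4,[4,1,4,2,2,3,7,3,2],4,[8,4,5,4,2,3,2,1,4]),
   (4,[7,3,5,2,6,6,5,4,3],3,[1,5,6,7,3,4,6,3,2]),
   (3,[1,5,6,7,3,4,6,3,2],4,[2,6,7,3,4,0,3,4,1,1]),
   (4,[6,5,2,1,0,4,7,8,2],3,[3,0,6,7,3,0,4,1,0]),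
   (3,[3,0,6,7,3,0,4,1,0],4,[6,7,3,5,1,0,2,3,1]),
   (4,[4,8,1,7,1,1,0,1,4,1],4,[6,6,5,2,3,2,2,1]),
   (4,[6,6,5,2,3,2,2,1],4,[5,4,5,6,7,3,2,4,0,2]),
   (3,[8,7,6,3,0,0,4,3],3,[6,2,1,5,2,8,4,1,4]),
   (3,[6,5,2,3,0,2,4,6,0],3,[4,2,3,4,1,7,0,3,4]),
   (4,[0,2,3,2,4,0,7,4],4,[7,6,5,2,5,2,3,1,4]),
   (4,[2,2,0,7,8,4,2,0,4],3,[2,8,1,7,3,7,3,4,0]),
   (3,[2,8,1,7,3,7,3,4,0],4,[2,5,2,3,4,2,0,4]),
   (4,[7,6,2,3,7,3,2,3,2,1],4,[4,1,4,6,3,2,0,4,2]),
   (2,[0,4,8,2,4,8,0,2,4],2,[5,7,8,1,4,3,0,2,3]),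
   (3,[6,6,2,3,0,4,8,4,0],3,[5,4,3,2,3,4,6,3,0])]

theorem allRows : List.Forall (fun e : Nat × List Nat × Nat × List Nat => F e.1 e.2.1 e.2.2.1 e.2.2.2) rowsT :=
  ⟨r0,r1,r2,r3,r4,r5,r6,r7,r8,r9,r10,r11,r12,r13,r14,r15,r16,r17,r18,r19,r20,r21,r22,r23,r24,r25,r26,r27,r28,r29,r30,r31,r32,r33,r34,r35,r36,r37,r38,r39,r40,r41,r42,r43,r44,r45,r46,r47,r48,r49,r50,r51,r52,r53,r54,r55,r56,r57,r58,r59,r60,r61,r62,r63,r64,r65⟩

end Cfsg.Agent.Lib.DCE.Ly.Rows
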