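import Cfsg.Agent.Lib.DCE.Ly.Setup

/-! The rules of the enumeration of double cosets in the Lyons group. -/

namespace Cfsg.Agent.Lib.DCE.Ly.Rules

open Cfsg.Agent.Lib.TC.Core Cfsg.Agent.Lib.TC.Pres Cfsg.Agent.Lib.DCE.Ly.Exp Cfsg.Agent.Lib.DCE.Ly.Setup
  Cfsg.Agent.Lib.DCE

set_option maxRecDepth 100000

/-- The word of the node `D`. -/
def dD : List Nat := w_x24

/-- The word of the node `E`. -/
def dE : List Nat := invW invQ w_x367

/-- The word of the node `F`. -/
def dF : List Nat := invW invQ w_x129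

/-- The representatives of the double cosets. -/
noncomputable def W : Nat → Γ
  | 1 => zz
  | 2 => zz * ev dD * zz
  | 3 => zz * ev dE * zz
  | 4 => zz * ev dF * zz
  | _ => 1

/-- The subgroup of the elements of a node. -/
noncomputable def S (j : Nat) : Subgroup Γ := HH.comap (MulAut.conj (W j)).toMonoidHom

theorem mem_S {j : Nat} {g : Γ} : g ∈ S j ↔ W j * g * (W j)⁻¹ ∈ HH := Iff.rfl

theorem S_of_eqv {j : Nat} {g : Γ} (h : Eqv HH (W j * g) (W j)) : g ∈ S j := h

theorem Eqv_left_S {k : Nat} {s : Γ} (hs : s ∈ S k) (x : Γ) : Eqv HH (W k * s * x) (W k * x) := by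
  have h : W k * s * x * (W k * x)⁻¹ = W k * s * (W k)⁻¹ := by group
  change W k * s * x * (W k * x)⁻¹ ∈ HH
  rw [h]
  exact hs

/-- The statement of a row of the table. -/
def F (j : Nat) (d : List Nat) (k : Nat) (h : List Nat) : Prop :=
  Eqv HH (W j * ev d * zz) (W k * ev h)

/-- An element in the coset of a pointer. -/
def Pt (x : Γ) (k : Nat) (h : List Nat) : Prop := Eqv HH x (W k * ev h)

/-- The word of a word in the generators of `K`. -/
def kL (κ : List Nat) : List Nat := κ.flatMap fun i => kwT.getD i []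

/-- The word of the conjugate by `z` of a word in the generators of `K`. -/
def sL (κ : List Nat) : List Nat := κ.flatMap fun i => ksT.getD i []

theorem zc_pos : ∀ i, i < 8 → zz⁻¹ * ev (kwT.getD i []) * zz = ev (ksT.getD i []) := by
  intro i hi
  interval_cases i
  · exact mul_inv_eq_one.1 zconj0
  · exact mul_inv_eq_one.1 zconj1
  · exact mul_inv_eq_one.1 zconj2
  · exact mul_inv_eq_one.1 zconj3
  · exact mul_inv_eq_one.1 zconj4
  · exact mul_inv_eq_one.1 zconj5
  · exact mul_inv_eq_one.1 zconj6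
  · exact mul_inv_eq_one.1 zconj7

theorem kw_lt : ∀ i, i < 16 → lt10 (kwT.getD i []) = true := by decide +kernel

theorem ks_lt : ∀ i, i < 16 → lt10 (ksT.getD i []) = true := by decide +kernel

theorem kw_neg : ∀ i, i < 8 → kwT.getD (i + 8) [] = invW invQ (kwT.getD i []) := by decide +kernel

theorem ks_neg : ∀ i, i < 8 → ksT.getD (i + 8) [] = invW invQ (ksT.getD i []) := by decide +kernel

theorem zc_all : ∀ i, i < 16 → zz⁻¹ * ev (kwT.getD i []) * zz = ev (ksT.getD i []) := by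
  intro i hi
  by_cases h8 : i < 8
  · exact zc_pos i h8
  · obtain ⟨j, rfl⟩ : ∃ j, i = j + 8 := ⟨i - 8, by omega⟩
    have hj : j < 8 := by omega
    rw [kw_neg j hj, ks_neg j hj, ev_invW _ (kw_lt j (by omega)), ev_invW _ (ks_lt j (by omega)), ← zc_pos j hj]
    group

theorem zc_word (κ : List Nat) (hκ : ∀ i ∈ κ, i < 16) : zz⁻¹ * ev (kL κ) * zz = ev (sL κ) := by
  induction κ with
  | nil =>
    simp [kL, sL, ev_nil]
  | cons i κ ih =>
    have h1 : kL (i :: κ) = kwT.getD i [] ++ kL κ := by simp [kL]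
    have h2 : sL (i :: κ) = ksT.getD i [] ++ sL κ := by simp [sL]
    rw [h1, h2, ev_append, ev_append, ← ih (fun y hy => hκ y (by simp [hy])), ← zc_all i (hκ i (by simp))]
    group

/-- All the numbers of a word are below a bound. -/
def ltB (n : Nat) (l : List Nat) : Bool := l.all fun c => Nat.blt c n

theorem ltB_spec {n : Nat} {l : List Nat} (h : ltB n l = true) : ∀ c ∈ l, c < n := by
  intro c hc
  have := List.all_eq_true.1 h c hc
  rw [Nat.blt_eq] at this
  exact this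

namespace F

variable {j k : Nat} {d h : List Nat}

/-- The reversal of a row. -/
theorem rev (f : F j d k h) : F k h j (w_u ++ d) := by
  have h1 : W k * ev h * zz = (W k * ev h) * zz := rfl
  have h2 := (Eqv.symm f).mul_right zz
  change Eqv HH (W k * ev h * zz) (W j * ev (w_u ++ d))
  rw [ev_append, ← zz_mul]
  have h3 : W j * (ev d * (zz * zz)) = W j * ev d * zz * zz := by group
  rw [h3]
  exact h2

end F

/-! ### Membership in the subgroups of the nodes -/

/-- The generators of the subgroup of node `1`. -/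
theorem mem_S1 (s κ' : List Nat) (hκ : ltB 16 κ' = true)
    (hs : lt10 s = true) (hw : lt10 (sL κ') = true)
    (h : wEq (invW invQ w_u ++ (s ++ w_u)) (kL κ') = true) : ev s ∈ S 1 := by
  have h1 := ev_eq h
  rw [ev_append, ev_append, ev_invW _ (by decide +kernel), ← zz_mul] at h1
  have h2 := zc_word κ' (ltB_spec hκ)
  rw [← h1] at h2
  have h3 := ev_mem _ hw
  rw [← h2] at h3
  rw [mem_S]
  have h4 : W 1 * ev s * (W 1)⁻¹ = zz⁻¹ * (zz * zz * ev s * (zz * zz)⁻¹) * zz := by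
    change zz * ev s * zz⁻¹ = _
    group
  rw [h4]
  exact h3

/-- A conjugate by `z` of an element of `K` fixing a point. -/
theorem mem_S_of_stab {j : Nat} {δ : List Nat} (f : F 1 δ j []) (κ κ'' : List Nat)
    (hκ : ltB 16 κ = true) (hs : ev (kL κ'') ∈ S 1)
    (hw : wEq (kL κ ++ δ) (δ ++ kL κ'') = true) : ev (sL κ) ∈ S j := by
  apply S_of_eqv
  have h1 := ev_eq hw
  rw [ev_append, ev_append] at h1
  have h2 := zc_word κ (ltB_spec hκ)
  have f' : Eqv HH (W 1 * ev δ * zz) (W j) := by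
    have : Eqv HH (W 1 * ev δ * zz) (W j * ev []) := f
    simpa [ev_nil] using this
  have h3 : W j * ev (sL κ) = W j * (zz⁻¹ * ev (kL κ) * zz) := by rw [h2]
  rw [h3]
  have h4 := (f'.symm).mul_right (zz⁻¹ * ev (kL κ) * zz)
  refine h4.trans ?_
  have h5 : W 1 * ev δ * zz * (zz⁻¹ * ev (kL κ) * zz) = W 1 * (ev δ * ev (kL κ)) * zz := by group
  rw [h5, h1]
  have h6 : W 1 * (ev (kL κ'') * ev δ) * zz = W 1 * ev (kL κ'') * (ev δ * zz) := by group
  rw [h6]
  refine (Eqv_left_S hs _).trans ?_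
  have h7 : W 1 * (ev δ * zz) = W 1 * ev δ * zz := by group
  rw [h7]
  exact f'

/-- The rows of the definitions. -/
theorem row0 : F 0 [] 1 [] := by
  apply Eqv.of_eq
  simp [W, ev_nil]

theorem rowD : F 1 dD 2 [] := by
  apply Eqv.of_eq
  simp [W, ev_nil]

theorem rowE : F 1 dE 3 [] := by
  apply Eqv.of_eq
  simp [W, ev_nil]

theorem rowF : F 1 dF 4 [] := by
  apply Eqv.of_eq
  simp [W, ev_nil]

theorem zz_inv_eq : zz⁻¹ = (ev w_u)⁻¹ * zz := by
  rw [← zz_mul]
  group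

theorem zz_inv_eq' : zz⁻¹ = zz * (ev w_u)⁻¹ := by
  rw [← zz_mul]
  group

/-- The extra generator of the node `D`. -/
theorem extraD (sD : List Nat) (hsD : wEq sD (w_u ++ (w_x369 ++ invW invQ w_u)) = true) : ev sD ∈ S 2 := by
  rw [mem_S, ev_eq hsD, ev_append, ev_append, ev_invW _ (by decide +kernel)]
  have h1 := tok84
  have hx : ev w_x23 = (ev w_x24)⁻¹ := by
    have : w_x23 = invW invQ w_x24 := by decide +kernel
    rw [this, ev_invW _ (by decide +kernel)]
  rw [hx] at h1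
  have hW : ∀ y, W 2 * y * (W 2)⁻¹ = (zz * ev w_x24 * zz) * y * (zz * ev w_x24 * zz)⁻¹ := fun _ => rfl
  rw [hW]
  have hm := HH.mul_mem (HH.mul_mem (ev_mem w_u (by decide +kernel)) (HH.inv_mem (ev_mem w_x29 (by decide +kernel))))
    (HH.inv_mem (ev_mem w_u (by decide +kernel)))
  rw [← zz_mul] at hm ⊢
  generalize ev w_x24 = x at h1 ⊢
  generalize ev w_x369 = t at h1 ⊢
  generalize ev w_x29 = r at h1 hm
  have h2 : (zz⁻¹ * x * zz⁻¹) * t * (zz * x⁻¹ * zz * r) = 1 := by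
    rw [← h1]
    group
  have ht : t = (zz⁻¹ * x * zz⁻¹)⁻¹ * (zz * x⁻¹ * zz * r)⁻¹ := by
    calc t = (zz⁻¹ * x * zz⁻¹)⁻¹ * ((zz⁻¹ * x * zz⁻¹) * t * (zz * x⁻¹ * zz * r)) * (zz * x⁻¹ * zz * r)⁻¹ := by group
      _ = _ := by rw [h2]; group
  have key : zz * x * zz * ((zz * zz)⁻¹ * t * (zz * zz)) * (zz * x * zz)⁻¹ = zz * zz * r⁻¹ * (zz * zz)⁻¹ := by
    rw [ht]
    group
  rw [key]
  exact hm

theorem extra_aux (d a s b r k1 : Γ) (ha : a = k1 * d) (hb : b = d⁻¹)
    (h : zz * (a * (zz * (s * (zz⁻¹ * (b * (zz⁻¹ * r)))))) = 1) :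
    (zz * d * zz) * s * (zz * d * zz)⁻¹ = (zz * k1 * zz⁻¹)⁻¹ * r⁻¹ := by
  subst ha hb
  have h2 : (zz * k1 * zz⁻¹) * ((zz * d * zz) * s * (zz * d * zz)⁻¹) * r = 1 := by
    rw [← h]
    group
  have h3 : (zz * d * zz) * s * (zz * d * zz)⁻¹ =
      (zz * k1 * zz⁻¹)⁻¹ * ((zz * k1 * zz⁻¹) * ((zz * d * zz) * s * (zz * d * zz)⁻¹) * r) * r⁻¹ := by
    group
  rw [h3, h2]
  group

/-- The extra generator of the node `E`. -/
theorem extraE (k1 : List Nat) (hk1 : ev k1 ∈ S 1) (hk : wEq w_x366 (dE ++ k1) = true) : ev w_x365 ∈ S 3 := by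
  rw [mem_S]
  have h1 : ev w_x366 = ev k1 * ev dE := by
    rw [ev_eq hk, ev_append]
  have h2 : ev w_x367 = (ev dE)⁻¹ := by
    rw [dE, ev_invW _ (by decide +kernel), inv_inv]
  have h3 := extra_aux (ev dE) _ (ev w_x365) _ (ev w_x370) (ev k1) h1 h2 tok85
  have hW : ∀ y, W 3 * y * (W 3)⁻¹ = (zz * ev dE * zz) * y * (zz * ev dE * zz)⁻¹ := fun _ => rfl
  rw [hW, h3]
  exact HH.mul_mem (HH.inv_mem hk1) (HH.inv_mem (ev_mem _ (by decide +kernel)))

/-- The extra generator of the node `F`. -/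
theorem extraF (k1 : List Nat) (hk1 : ev k1 ∈ S 1) (hk : wEq w_x96 (dF ++ k1) = true) : ev w_x25 ∈ S 4 := by
  rw [mem_S]
  have h1 : ev w_x96 = ev k1 * ev dF := by
    rw [ev_eq hk, ev_append]
  have h2 : ev w_x129 = (ev dF)⁻¹ := by
    rw [dF, ev_invW _ (by decide +kernel), inv_inv]
  have h3 := extra_aux (ev dF) _ (ev w_x25) _ (ev w_x371) (ev k1) h1 h2 tok86
  have hW : ∀ y, W 4 * y * (W 4)⁻¹ = (zz * ev dF * zz) * y * (zz * ev dF * zz)⁻¹ := fun _ => rfl
  rw [hW, h3]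
  exact HH.mul_mem (HH.inv_mem hk1) (HH.inv_mem (ev_mem _ (by decide +kernel)))

theorem S0_all (w : List Nat) (hw : lt10 w = true) : ev w ∈ S 0 := by
  rw [mem_S]
  have h : W 0 = 1 := rfl
  rw [h]
  simpa using ev_mem w hw

end Cfsg.Agent.Lib.DCE.Ly.Rules
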