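import Cfsg.Agent.Lib.DCE.Ly.Exp
import Cfsg.Agent.Lib.DCE.Ly.H.Tgt
import Cfsg.Agent.Lib.DCE.Basic

/-! The subgroup `G₂(5)` in the Lyons group and the element `z`. -/

namespace Cfsg.Agent.Lib.DCE.Ly.Setup

open Cfsg.Agent.Lib.TC.Core Cfsg.Agent.Lib.TC.Pres Cfsg.Agent.Lib.TC.Main Cfsg.Agent.Lib.TC.Chain
  Cfsg.Agent.Lib.TC.Iso Cfsg.Agent.Lib.DCE.Ly.Exp

set_option maxRecDepth 100000

/-- The presented group on `a, b, c, d, e`. -/
abbrev Q : Type := PresentedGroup Cfsg.Agent.Lib.DCE.Ly.H.Rels.Rel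

/-- The letters of `Q`. -/
def EQ (c : Nat) : Q := Cfsg.Agent.Lib.DCE.Ly.H.Rels.K.E Cfsg.Agent.Lib.DCE.Ly.H.Rels.Rel c

/-- The inverse of a letter of `Q`. -/
abbrev invQ : Nat → Nat := Cfsg.Agent.Lib.DCE.Pres.invC 5

/-- The letter of the group of a letter of `Q`. -/
def q2l (c : Nat) : Nat := cond (Nat.blt c 5) c (c + 1)

/-- The element of a letter of `Q`. -/
def Lq (c : Nat) : Γ := L (q2l c)

/-- The element `z`. -/
def zz : Γ := L 5

/-- The element of a word. -/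
def ev (w : List Nat) : Γ := prodA Lq w

theorem ev_nil : ev [] = 1 := rfl

theorem ev_append (a b : List Nat) : ev (a ++ b) = ev b * ev a := prodA_append _ _ _

theorem q2l_inv : ∀ c, c < 10 → q2l (invQ c) = inv12 (q2l c) := by decide +kernel

theorem q2l_lt : ∀ c, c < 10 → q2l c < 12 := by decide +kernel

theorem Lq_inv : ∀ c, c < 10 → Lq (invQ c) = (Lq c)⁻¹ := by
  intro c hc
  change L (q2l (invQ c)) = (L (q2l c))⁻¹
  rw [q2l_inv c hc]
  exact L_inv _ (q2l_lt c hc)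

/-- All the letters are letters of `Q`. -/
def lt10 (w : List Nat) : Bool := w.all fun c => Nat.blt c 10

theorem lt10_spec {w : List Nat} (h : lt10 w = true) : ∀ c ∈ w, c < 10 := by
  intro c hc
  have := List.all_eq_true.1 h c hc
  rw [Nat.blt_eq] at this
  exact this

theorem ev_map (w : List Nat) : prodA L (w.map q2l) = ev w := by
  induction w with
  | nil => rfl
  | cons c w ih =>
    rw [List.map_cons, prodA_cons, ih]
    rfl

theorem ev_invW (w : List Nat) (hw : lt10 w = true) : ev (invW invQ w) = (ev w)⁻¹ :=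
  prodA_invW Lq invQ w (fun c hc => Lq_inv c (lt10_spec hw c hc))

theorem q_rel : ∀ l ∈ Cfsg.Agent.Lib.DCE.Ly.H.Rels.rels, l.map q2l ∈ relsExp := by decide +kernel

theorem exists_iota : ∃ ι : Q →* Γ, ∀ c, c < 10 → ι (EQ c) = Lq c :=
  Cfsg.Agent.Lib.DCE.Pres.exists_hom 5 Cfsg.Agent.Lib.DCE.Ly.H.Rels.rels Cfsg.Agent.Lib.DCE.Ly.H.Rels.hk Lq Lq_inv
    (fun l hl => by
      have h : prodA Lq l = prodA L (l.map q2l) := (ev_map l).symm
      rw [h]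
      exact relsExp_one _ (q_rel l hl))

/-- The map from `Q`. -/
noncomputable def iota : Q →* Γ := Classical.choose exists_iota

theorem iota_E (c : Nat) (hc : c < 10) : iota (EQ c) = Lq c := Classical.choose_spec exists_iota c hc

theorem iota_prodA (w : List Nat) (hw : ∀ c ∈ w, c < 10) : iota (prodA EQ w) = ev w := by
  induction w with
  | nil => exact map_one _
  | cons c w ih =>
    rw [prodA_cons, map_mul, ih (fun y hy => hw y (by simp [hy])), iota_E c (hw c (by simp))]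
    rfl

/-- The subgroup. -/
noncomputable def HH : Subgroup Γ := iota.range

theorem ev_mem (w : List Nat) (hw : lt10 w = true) : ev w ∈ HH :=
  ⟨prodA EQ w, iota_prodA w (lt10_spec hw)⟩

/-- The base of the table of `Q`. -/
def bQ : List Nat := [12,1,0]

theorem bQ_eq : Cfsg.Agent.Lib.TC.Iso.allBase [0] Cfsg.Agent.Lib.DCE.Ly.H.Lev.levels = bQ := by decide +kernel

/-- The table of `Q`. -/
noncomputable abbrev ptQ := Cfsg.Agent.Lib.DCE.Ly.H.QTab.pt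

/-- The check of an equality of words of `Q`. -/
noncomputable def wEq (a b : List Nat) : Bool :=
  andB (lt10 a) (andB (lt10 b) (fixAll ptQ bQ (invW invQ b ++ a)))

theorem prodM_levels : 5859000000 ≤ ptQ.n * Cfsg.Agent.Lib.TC.Chain.PermLev.prodM Cfsg.Agent.Lib.DCE.Ly.H.Lev.levels := by
  decide +kernel

theorem EQ_inv : ∀ c, c < 10 → EQ (invQ c) = (EQ c)⁻¹ := fun c hc =>
  (Cols.E_inv Cfsg.Agent.Lib.DCE.Ly.H.Rels.valid c hc).2

theorem prodA_EQ_eq {a b : List Nat} (h : wEq a b = true) : prodA EQ a = prodA EQ b := by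
  rw [wEq, andB_eq_true, andB_eq_true] at h
  obtain ⟨h1, h2, h3⟩ := h
  have hw : ∀ z ∈ invW invQ b ++ a, z < Cfsg.Agent.Lib.DCE.Ly.H.Rels.K.k := by
    intro z hz
    rcases List.mem_append.1 hz with hz | hz
    · simp only [invW, List.mem_reverse, List.mem_map] at hz
      obtain ⟨y, hy, rfl⟩ := hz
      have := lt10_spec h2 y hy
      exact (Cfsg.Agent.Lib.DCE.Pres.valid 5 Cfsg.Agent.Lib.DCE.Ly.H.Rels.rels).inv_lt y this
    · exact lt10_spec h1 z hz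
  have h4 := word_spec Cfsg.Agent.Lib.DCE.Ly.H.QOk.ok 5859000000 Cfsg.Agent.Lib.DCE.Ly.H.Tgt.card_Q (by norm_num)
    Cfsg.Agent.Lib.DCE.Ly.H.Lev.levels Cfsg.Agent.Lib.DCE.Ly.H.Lev.hlev prodM_levels _ hw (by rw [bQ_eq]; exact h3)
  have h5 : prodA EQ (invW invQ b ++ a) = 1 := h4
  rw [prodA_append, prodA_invW EQ invQ b (fun c hc => EQ_inv c (lt10_spec h2 c hc))] at h5
  exact mul_inv_eq_one.1 h5

theorem ev_eq {a b : List Nat} (h : wEq a b = true) : ev a = ev b := by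
  have h0 := h
  rw [wEq, andB_eq_true, andB_eq_true] at h0
  rw [← iota_prodA a (lt10_spec h0.1), ← iota_prodA b (lt10_spec h0.2.1), prodA_EQ_eq h]

/-! ### The words and the relators -/

/-- The word `u`. -/
def w_u : List Nat := [0,0]

/-- The word `a4`. -/
def w_a4 : List Nat := [1,1,0,6,6]

/-- The word `x47`. -/
def w_x47 : List Nat := [8,7,1,5,7,5,8,7]

/-- The word `x364`. -/
def w_x364 : List Nat := [6,0,1,0,6,0,7,5,6,7,1,8,7,1,5,7,6,3,5]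

/-- The word `x368`. -/
def w_x368 : List Nat := [6,6,5,6,7,6,6,2,0,7,5,8,7,0,6,7,0,8,7,5]

/-- The word `x24`. -/
def w_x24 : List Nat := [8]

/-- The word `x369`. -/
def w_x369 : List Nat := [6,0,6,6,0,6,7,6,5,1,8,7,6,5,1,8,7,5]

/-- The word `x23`. -/
def w_x23 : List Nat := [3]

/-- The word `x29`. -/
def w_x29 : List Nat := [2,1,2,3,6,6,2,3,6,2,1,2,0,7,1,1,5,1,1,5,1,0]

/-- The word `x366`. -/
def w_x366 : List Nat := [2,1,2,3,6,6,2,3,1,2,1,1,2,6,5,6,6,5,6,0,1]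

/-- The word `x365`. -/
def w_x365 : List Nat := [8,6,2,5,2,0,2,3,7,7,5,1,7,1,2,5,6,6,0]

/-- The word `x367`. -/
def w_x367 : List Nat := [6,5,1,0,1,1,0,1,7,6,6,7,6,8,7,1,1,8,7,6,7]

/-- The word `x370`. -/
def w_x370 : List Nat := [5,1,5,6,6,5,2,5,6,0,8,7,5,2,1,2,0,8]

/-- The word `x96`. -/
def w_x96 : List Nat := [3,1]

/-- The word `x25`. -/
def w_x25 : List Nat := [1,2,5,1,1,7,3,7,5,2,0,7,1,1,5,6,5,1,1]

/-- The word `x129`. -/
def w_x129 : List Nat := [6,8]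

/-- The word `x371`. -/
def w_x371 : List Nat := [1,5,6,5,6,2,0,2,5,2,8,7,1,2,5,7]

/-- The words of the generators of the subgroup `K`, with their inverses. -/
def kwT : List (List Nat) :=
  [[2],
   [0,2,5],
   [1,2,6],
   [6,2,1],
   [0,2,5,2,0,7,5,7],
   [0],
   [6,0,1],
   [6,6,0,1,1],
   [7],
   [0,7,5],
   [1,7,6],
   [6,7,1],
   [2,0,2,5,7,0,7,5],
   [5],
   [6,5,1],
   [6,6,5,1,1]]

/-- The conjugates by `z` of the generators of `K`. -/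
def ksT : List (List Nat) :=
  [[0,1,7,0,6,7,1,5,6,5],
   [1,2,1,5,2,0,6,6],
   [0,1,0,2,5,6,5],
   [1,0,6,2,1,5,6],
   [7,6,6,2,0,1,2,6,5,1,1],
   [5,5,5],
   [5,5,6,5,1],
   [5,6,6,0,1,1,0],
   [0,1,0,6,2,1,5,2,6,5],
   [1,1,5,7,0,6,7,6],
   [0,1,0,7,5,6,5],
   [1,0,6,7,1,5,6],
   [6,6,0,1,7,6,5,7,1,1,2],
   [0,0,0],
   [6,0,1,0,0],
   [5,6,6,5,1,1,0]]

theorem L5 : L 5 = zz := rfl

theorem L11 : L 11 = zz⁻¹ := L_inv 5 (by norm_num)

theorem zz_rel : zz * zz * (ev w_u)⁻¹ = 1 := by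
  have h := relsExp_one ([6,6,5,5]) (by decide +kernel)
  have h2 : ([6,6,5,5]) = (invW invQ w_u).map q2l ++ [5, 5] := by decide +kernel
  rw [h2, prodA_append, ev_map, ev_invW _ (by decide +kernel), prodA_cons, prodA_cons, prodA_nil, one_mul, L5] at h
  exact h

theorem zz_mul : zz * zz = ev w_u := mul_inv_eq_one.1 zz_rel

theorem zconj0 : zz⁻¹ * ev (kwT.getD 0 []) * zz * (ev (ksT.getD 0 []))⁻¹ = 1 := by
  have h := relsExp_one ([0,1,0,7,2,1,6,2,7,6,5,2,11]) (by decide +kernel)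
  have h2 : ([0,1,0,7,2,1,6,2,7,6,5,2,11]) = (invW invQ (ksT.getD 0 [])).map q2l ++ (5 :: ((kwT.getD 0 []).map q2l ++ [11])) := by decide +kernel
  rw [h2, prodA_append, ev_map, ev_invW _ (by decide +kernel), prodA_cons, prodA_append, ev_map, prodA_cons,
    prodA_nil, one_mul, L5, L11] at h
  exact h

theorem zconj1 : zz⁻¹ * ev (kwT.getD 1 []) * zz * (ev (ksT.getD 1 []))⁻¹ = 1 := by
  have h := relsExp_one ([1,1,6,8,0,7,8,7,5,0,2,6,11]) (by decide +kernel)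
  have h2 : ([1,1,6,8,0,7,8,7,5,0,2,6,11]) = (invW invQ (ksT.getD 1 [])).map q2l ++ (5 :: ((kwT.getD 1 []).map q2l ++ [11])) := by decide +kernel
  rw [h2, prodA_append, ev_map, ev_invW _ (by decide +kernel), prodA_cons, prodA_append, ev_map, prodA_cons,
    prodA_nil, one_mul, L5, L11] at h
  exact h

theorem zconj2 : zz⁻¹ * ev (kwT.getD 2 []) * zz * (ev (ksT.getD 2 []))⁻¹ = 1 := by
  have h := relsExp_one ([0,1,0,8,6,7,6,5,1,2,7,11]) (by decide +kernel)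
  have h2 : ([0,1,0,8,6,7,6,5,1,2,7,11]) = (invW invQ (ksT.getD 2 [])).map q2l ++ (5 :: ((kwT.getD 2 []).map q2l ++ [11])) := by decide +kernel
  rw [h2, prodA_append, ev_map, ev_invW _ (by decide +kernel), prodA_cons, prodA_append, ev_map, prodA_cons,
    prodA_nil, one_mul, L5, L11] at h
  exact h

theorem zconj3 : zz⁻¹ * ev (kwT.getD 3 []) * zz * (ev (ksT.getD 3 []))⁻¹ = 1 := by
  have h := relsExp_one ([1,0,7,8,1,6,7,5,7,2,1,11]) (by decide +kernel)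
  have h2 : ([1,0,7,8,1,6,7,5,7,2,1,11]) = (invW invQ (ksT.getD 3 [])).map q2l ++ (5 :: ((kwT.getD 3 []).map q2l ++ [11])) := by decide +kernel
  rw [h2, prodA_append, ev_map, ev_invW _ (by decide +kernel), prodA_cons, prodA_append, ev_map, prodA_cons,
    prodA_nil, one_mul, L5, L11] at h
  exact h

theorem zconj4 : zz⁻¹ * ev (kwT.getD 4 []) * zz * (ev (ksT.getD 4 []))⁻¹ = 1 := by
  have h := relsExp_one ([7,7,0,1,8,7,6,8,1,1,2,5,0,2,6,2,0,8,6,8,11]) (by decide +kernel)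
  have h2 : ([7,7,0,1,8,7,6,8,1,1,2,5,0,2,6,2,0,8,6,8,11]) = (invW invQ (ksT.getD 4 [])).map q2l ++ (5 :: ((kwT.getD 4 []).map q2l ++ [11])) := by decide +kernel
  rw [h2, prodA_append, ev_map, ev_invW _ (by decide +kernel), prodA_cons, prodA_append, ev_map, prodA_cons,
    prodA_nil, one_mul, L5, L11] at h
  exact h

theorem zconj5 : zz⁻¹ * ev (kwT.getD 5 []) * zz * (ev (ksT.getD 5 []))⁻¹ = 1 := by
  have h := relsExp_one ([0,0,0,5,0,11]) (by decide +kernel)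
  have h2 : ([0,0,0,5,0,11]) = (invW invQ (ksT.getD 5 [])).map q2l ++ (5 :: ((kwT.getD 5 []).map q2l ++ [11])) := by decide +kernel
  rw [h2, prodA_append, ev_map, ev_invW _ (by decide +kernel), prodA_cons, prodA_append, ev_map, prodA_cons,
    prodA_nil, one_mul, L5, L11] at h
  exact h

theorem zconj6 : zz⁻¹ * ev (kwT.getD 6 []) * zz * (ev (ksT.getD 6 []))⁻¹ = 1 := by
  have h := relsExp_one ([7,0,1,0,0,5,7,0,1,11]) (by decide +kernel)
  have h2 : ([7,0,1,0,0,5,7,0,1,11]) = (invW invQ (ksT.getD 6 [])).map q2l ++ (5 :: ((kwT.getD 6 []).map q2l ++ [11])) := by decide +kernel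
  rw [h2, prodA_append, ev_map, ev_invW _ (by decide +kernel), prodA_cons, prodA_append, ev_map, prodA_cons,
    prodA_nil, one_mul, L5, L11] at h
  exact h

theorem zconj7 : zz⁻¹ * ev (kwT.getD 7 []) * zz * (ev (ksT.getD 7 []))⁻¹ = 1 := by
  have h := relsExp_one ([6,7,7,6,1,1,0,5,7,7,0,1,1,11]) (by decide +kernel)
  have h2 : ([6,7,7,6,1,1,0,5,7,7,0,1,1,11]) = (invW invQ (ksT.getD 7 [])).map q2l ++ (5 :: ((kwT.getD 7 []).map q2l ++ [11])) := by decide +kernel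
  rw [h2, prodA_append, ev_map, ev_invW _ (by decide +kernel), prodA_cons, prodA_append, ev_map, prodA_cons,
    prodA_nil, one_mul, L5, L11] at h
  exact h

theorem tok82 : ev w_a4 * (zz * (ev w_a4 * (zz * (ev w_a4 * (zz * ev w_u))))) = 1 := by
  have h := relsExp_one ([0,0,5,1,1,0,7,7,5,1,1,0,7,7,5,1,1,0,7,7]) (by decide +kernel)
  have h2 : ([0,0,5,1,1,0,7,7,5,1,1,0,7,7,5,1,1,0,7,7]) = (w_u.map q2l ++ ([5] ++ (w_a4.map q2l ++ ([5] ++ (w_a4.map q2l ++ ([5] ++ (w_a4.map q2l))))))) := by decide +kernel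
  rw [h2] at h
  simp only [prodA_append, ev_map, prodA_cons, prodA_nil, one_mul, L5, L11] at h
  simpa only [mul_assoc] using h

theorem tok83 : ev w_x47 * (zz * (ev w_x364 * (zz * (ev w_x368 * zz)))) = 1 := by
  have h := relsExp_one ([5,7,7,6,7,8,7,7,2,0,8,6,9,8,0,7,8,0,9,8,6,5,7,0,1,0,7,0,8,6,7,8,1,9,8,1,6,8,7,3,6,5,9,8,1,6,8,6,9,8]) (by decide +kernel)
  have h2 : ([5,7,7,6,7,8,7,7,2,0,8,6,9,8,0,7,8,0,9,8,6,5,7,0,1,0,7,0,8,6,7,8,1,9,8,1,6,8,7,3,6,5,9,8,1,6,8,6,9,8]) = ([5] ++ (w_x368.map q2l ++ ([5] ++ (w_x364.map q2l ++ ([5] ++ (w_x47.map q2l)))))) := by decide +kernel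
  rw [h2] at h
  simp only [prodA_append, ev_map, prodA_cons, prodA_nil, one_mul, L5, L11] at h
  simpa only [mul_assoc] using h

theorem tok84 : zz⁻¹ * (ev w_x24 * (zz⁻¹ * (ev w_x369 * (zz * (ev w_x23 * (zz * ev w_x29)))))) = 1 := by
  have h := relsExp_one ([2,1,2,3,7,7,2,3,7,2,1,2,0,8,1,1,6,1,1,6,1,0,5,3,5,7,0,7,7,0,7,8,7,6,1,9,8,7,6,1,9,8,6,11,9,11]) (by decide +kernel)
  have h2 : ([2,1,2,3,7,7,2,3,7,2,1,2,0,8,1,1,6,1,1,6,1,0,5,3,5,7,0,7,7,0,7,8,7,6,1,9,8,7,6,1,9,8,6,11,9,11]) = (w_x29.map q2l ++ ([5] ++ (w_x23.map q2l ++ ([5] ++ (w_x369.map q2l ++ ([11] ++ (w_x24.map q2l ++ ([11])))))))) := by decide +kernel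
  rw [h2] at h
  simp only [prodA_append, ev_map, prodA_cons, prodA_nil, one_mul, L5, L11] at h
  simpa only [mul_assoc] using h

theorem tok85 : zz * (ev w_x366 * (zz * (ev w_x365 * (zz⁻¹ * (ev w_x367 * (zz⁻¹ * ev w_x370)))))) = 1 := by
  have h := relsExp_one ([6,1,6,7,7,6,2,6,7,0,9,8,6,2,1,2,0,9,11,7,6,1,0,1,1,0,1,8,7,7,8,7,9,8,1,1,9,8,7,8,11,9,7,2,6,2,0,2,3,8,8,6,1,8,1,2,6,7,7,0,5,2,1,2,3,7,7,2,3,1,2,1,1,2,7,6,7,7,6,7,0,1,5]) (by decide +kernel)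
  have h2 : ([6,1,6,7,7,6,2,6,7,0,9,8,6,2,1,2,0,9,11,7,6,1,0,1,1,0,1,8,7,7,8,7,9,8,1,1,9,8,7,8,11,9,7,2,6,2,0,2,3,8,8,6,1,8,1,2,6,7,7,0,5,2,1,2,3,7,7,2,3,1,2,1,1,2,7,6,7,7,6,7,0,1,5]) = (w_x370.map q2l ++ ([11] ++ (w_x367.map q2l ++ ([11] ++ (w_x365.map q2l ++ ([5] ++ (w_x366.map q2l ++ ([5])))))))) := by decide +kernel
  rw [h2] at h
  simp only [prodA_append, ev_map, prodA_cons, prodA_nil, one_mul, L5, L11] at h
  simpa only [mul_assoc] using h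

theorem tok86 : zz * (ev w_x96 * (zz * (ev w_x25 * (zz⁻¹ * (ev w_x129 * (zz⁻¹ * ev w_x371)))))) = 1 := by
  have h := relsExp_one ([1,6,7,6,7,2,0,2,6,2,9,8,1,2,6,8,11,7,9,11,1,2,6,1,1,8,3,8,6,2,0,8,1,1,6,7,6,1,1,5,3,1,5]) (by decide +kernel)
  have h2 : ([1,6,7,6,7,2,0,2,6,2,9,8,1,2,6,8,11,7,9,11,1,2,6,1,1,8,3,8,6,2,0,8,1,1,6,7,6,1,1,5,3,1,5]) = (w_x371.map q2l ++ ([11] ++ (w_x129.map q2l ++ ([11] ++ (w_x25.map q2l ++ ([5] ++ (w_x96.map q2l ++ ([5])))))))) := by decide +kernel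
  rw [h2] at h
  simp only [prodA_append, ev_map, prodA_cons, prodA_nil, one_mul, L5, L11] at h
  simpa only [mul_assoc] using h

end Cfsg.Agent.Lib.DCE.Ly.Setup
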