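import Cfsg.Agent.Lib.DCE.Ly.Gens

/-! The steps of the scans of relators. -/

namespace Cfsg.Agent.Lib.DCE.Ly.Steps

open Cfsg.Agent.Lib.TC.Core Cfsg.Agent.Lib.TC.Pres Cfsg.Agent.Lib.DCE.Ly.Exp Cfsg.Agent.Lib.DCE.Ly.Setup
  Cfsg.Agent.Lib.DCE Cfsg.Agent.Lib.DCE.Ly.Rules Cfsg.Agent.Lib.DCE.Ly.Gens

set_option maxRecDepth 100000

/-- The word of a word in the generators of the subgroup of a node. -/
def sW (k : Nat) (is : List Nat) : List Nat := is.flatMap fun i => (gensT.getD k []).getD i []

/-- The numbers of a word in the generators of the subgroup of a node. -/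
def ltG (k : Nat) (is : List Nat) : Bool := ltB (gensT.getD k []).length is

theorem sW_mem {k : Nat} (hk : k < 5) (is : List Nat) (hi : ltG k is = true) : ev (sW k is) ∈ S k := by
  have h := ltB_spec hi
  clear hi
  induction is with
  | nil => exact Subgroup.one_mem _
  | cons i is ih =>
    have h1 : sW k (i :: is) = (gensT.getD k []).getD i [] ++ sW k is := by simp [sW]
    rw [h1, ev_append]
    exact Subgroup.mul_mem _ (ih fun y hy => h y (by simp [hy])) (hgens k hk i (h i (by simp)))

theorem Pt.init (j : Nat) (d : List Nat) : Pt (W j * ev d) j d := Eqv.refl _ _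

/-- A pointer up to the subgroup of its node. -/
theorem Pt.norm {x : Γ} {k : Nat} {h : List Nat} (p : Pt x k h) (hk : k < 5) (hn is : List Nat)
    (hi : ltG k is = true) (hc : wEq h (hn ++ sW k is) = true) : Pt x k hn := by
  refine Eqv.trans p ?_
  rw [ev_eq hc, ev_append, ← mul_assoc]
  exact Eqv_left_S (sW_mem hk is hi) _

/-- A step along an element of the subgroup. -/
theorem Pt.mulH {x : Γ} {k : Nat} {h : List Nat} (p : Pt x k h) (hk : k < 5) (t hn is : List Nat)
    (hi : ltG k is = true) (hc : wEq (t ++ h) (hn ++ sW k is) = true) : Pt (x * ev t) k hn := by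
  have h1 : Pt (x * ev t) k (t ++ h) := by
    have := Eqv.mul_right p (ev t)
    change Eqv HH (x * ev t) (W k * ev (t ++ h))
    rw [ev_append, ← mul_assoc]
    exact this
  exact Pt.norm h1 hk hn is hi hc

/-- A step along `z`. -/
theorem Pt.z {x : Γ} {k k' : Nat} {h d h' : List Nat} (p : Pt x k h) (hk : k < 5) (f : F k d k' h')
    (κ is : List Nat) (hκ : ltB 16 κ = true) (hi : ltG k is = true)
    (hc : wEq h (kL κ ++ (d ++ sW k is)) = true) : Pt (x * zz) k' (sL κ ++ h') := by
  have h1 := Eqv.mul_right p zz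
  refine Eqv.trans h1 ?_
  rw [ev_eq hc, ev_append, ev_append]
  have h2 : W k * (ev (sW k is) * ev d * ev (kL κ)) * zz = W k * ev (sW k is) * (ev d * ev (kL κ) * zz) := by
    group
  rw [h2]
  refine (Eqv_left_S (sW_mem hk is hi) _).trans ?_
  have h3 : W k * (ev d * ev (kL κ) * zz) = W k * ev d * zz * (zz⁻¹ * ev (kL κ) * zz) := by group
  rw [h3, zc_word κ (ltB_spec hκ), ev_append, ← mul_assoc]
  exact Eqv.mul_right f _

/-- From a pointer after the step along `z` and the inverse of `u` to the step along the inverse of `z`. -/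
theorem Pt.zi_of {x : Γ} {k : Nat} {t : List Nat} (p : Pt (x * zz * ev (invW invQ w_u)) k t) : Pt (x * zz⁻¹) k t := by
  have h : x * zz * ev (invW invQ w_u) = x * zz⁻¹ := by
    rw [ev_invW _ (by decide +kernel), ← zz_mul]
    group
  rw [h] at p
  exact p

/-- A row up to the subgroup of a node. -/
theorem F.normR {j k : Nat} {d h : List Nat} (f : F j d k h) (hk : k < 5) (t is : List Nat)
    (hi : ltG k is = true) (hc : wEq h (t ++ sW k is) = true) : F j d k t := by
  have hp : Pt (W j * ev d * zz) k h := f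
  exact Pt.norm hp hk t is hi hc

/-- The deduction from a scan of a relator with a gap at the second `z`. -/
theorem ded_mid {A B C D : List Nat} (hrel : ev A * (zz * (ev B * (zz * (ev C * (zz * ev D))))) = 1)
    (hC : lt10 C = true) (hD : lt10 D = true) {c : Γ} {k k' : Nat} {h h' : List Nat}
    (p1 : Pt (c * ev A * zz * ev B) k h)
    (p2 : Pt (c * ev (invW invQ D) * zz⁻¹ * ev (invW invQ C)) k' h') : F k h k' h' := by
  have e : (c * ev A * zz * ev B) * zz = c * ev (invW invQ D) * zz⁻¹ * ev (invW invQ C) := by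
    rw [ev_invW _ hD, ev_invW _ hC]
    have h1 : ev A * zz * ev B * zz = (ev C * (zz * ev D))⁻¹ := by
      apply eq_inv_of_mul_eq_one_left
      rw [← hrel]
      group
    calc c * ev A * zz * ev B * zz = c * (ev A * zz * ev B * zz) := by group
      _ = _ := by rw [h1]; group
  have h2 := (Eqv.symm p1).mul_right zz
  rw [e] at h2
  exact Eqv.trans h2 p2

/-- The deduction from a scan of a relator with a gap at the first `z`. -/
theorem ded_first {A B C D : List Nat} (hrel : ev A * (zz * (ev B * (zz * (ev C * (zz * ev D))))) = 1)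
    (hB : lt10 B = true) (hC : lt10 C = true) (hD : lt10 D = true) {c : Γ} {k k' : Nat} {h h' : List Nat}
    (p1 : Pt (c * ev A) k h)
    (p2 : Pt (c * ev (invW invQ D) * zz⁻¹ * ev (invW invQ C) * zz⁻¹ * ev (invW invQ B)) k' h') : F k h k' h' := by
  have e : (c * ev A) * zz = c * ev (invW invQ D) * zz⁻¹ * ev (invW invQ C) * zz⁻¹ * ev (invW invQ B) := by
    rw [ev_invW _ hD, ev_invW _ hC, ev_invW _ hB]
    have h1 : ev A * zz = (ev B * (zz * (ev C * (zz * ev D))))⁻¹ := by
      apply eq_inv_of_mul_eq_one_left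
      rw [← hrel]
      group
    calc c * ev A * zz = c * (ev A * zz) := by group
      _ = _ := by rw [h1]; group
  have h2 := (Eqv.symm p1).mul_right zz
  rw [e] at h2
  exact Eqv.trans h2 p2

/-- The relator `83` in the form of the scans. -/
theorem tok83' : ev w_x47 * (zz * (ev w_x364 * (zz * (ev w_x368 * (zz * ev []))))) = 1 := by
  rw [ev_nil, mul_one]
  exact tok83

end Cfsg.Agent.Lib.DCE.Ly.Steps
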